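import Cfsg.Agent.SylowRankOne.Basic
import Cfsg.Agent.Walter.Setting
import Cfsg.Agent.AbCentMax.Main
import Cfsg.Agent.Classical.Misc.SmallPSL
import Cfsg.Agent.Classical.PSLTwoDihedral
import Cfsg.Agent.S0813
import Cfsg.Agent.S0448
import Cfsg.Agent.EqualOrder.JR.Count

/-!
Abelian Sylow 2-subgroups of Janko–Ree type with the uniqueness property: the first Janko group.
-/

set_option autoImplicit false
set_option linter.unusedSectionVars false
set_option linter.style.haveILetI false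

namespace Cfsg.Lib.SylowRankOne

open Subgroup Cfsg.Lib.Walter.CI
open scoped Pointwise

universe u

/-- an involution of `PSL(2, q)` centralised by a nontrivial element of odd order -/
theorem exists_odd_commuting {F : Type} [Field F] [Fintype F]
    (h8 : Fintype.card F % 8 = 3 ∨ Fintype.card F % 8 = 5) (h5 : 5 < Fintype.card F) :
    ∃ a y : Matrix.ProjectiveSpecialLinearGroup (Fin 2) F,
      orderOf a = 2 ∧ y ≠ 1 ∧ Odd (orderOf y) ∧ Commute a y := by
  classical
  haveI : Fact (Nat.Prime 2) := ⟨Nat.prime_two⟩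
  obtain ⟨q, hq⟩ : ∃ q, Fintype.card F = q := ⟨_, rfl⟩
  have hodd : Fintype.card F % 2 = 1 := by omega
  have hK : ringChar F ≠ 2 := fun e => by
    have := FiniteField.even_card_of_char_two e; omega
  obtain ⟨δ, m, hδ, hm, hm1, hcard⟩ : ∃ (δ : F) (m : ℕ), δ ≠ 0 ∧ Odd m ∧ 1 < m ∧
      Nat.card (Cfsg.Lib.PSLTwoDihedral.torus δ) = 4 * m := by
    rcases h8 with h | h
    · obtain ⟨δ, hδ⟩ := FiniteField.exists_nonsquare hK
      refine ⟨δ, (q + 1) / 4, fun e => hδ ?_, Nat.odd_iff.2 (by omega), by omega, ?_⟩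
      · rw [e]; exact IsSquare.zero
      · rw [Cfsg.Lib.PSLTwoDihedral.card_torus_nonsquare hodd hδ]; omega
    · exact ⟨1, (q - 1) / 4, one_ne_zero, Nat.odd_iff.2 (by omega), by omega, by
        rw [Cfsg.Lib.PSLTwoDihedral.card_torus_one hodd]; omega⟩
  haveI := Cfsg.Lib.PSLTwoDihedral.torus_cyclic hodd hδ
  obtain ⟨g, hg⟩ := IsCyclic.exists_generator (α := ↥(Cfsg.Lib.PSLTwoDihedral.torus δ))
  have hog := orderOf_eq_card_of_forall_mem_zpowers hg
  rw [hcard, ← orderOf_coe] at hog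
  set x : Matrix.ProjectiveSpecialLinearGroup (Fin 2) F :=
    QuotientGroup.mk' (center (Matrix.SpecialLinearGroup (Fin 2) F)) g.1 with hx
  set o := orderOf x with ho
  have h4 : 4 * m ∣ 2 * o := by
    rw [← hog]
    refine orderOf_dvd_of_pow_eq_one ?_
    have h1 : QuotientGroup.mk' (center (Matrix.SpecialLinearGroup (Fin 2) F)) (g.1 ^ o) = 1 := by
      rw [map_pow]; exact pow_orderOf_eq_one x
    rw [mul_comm, pow_mul, pow_two]
    refine Subtype.ext ?_
    show ((g.1 ^ o : Matrix.SpecialLinearGroup (Fin 2) F) : Matrix (Fin 2) (Fin 2) F) *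
      ((g.1 ^ o : Matrix.SpecialLinearGroup (Fin 2) F) : Matrix (Fin 2) (Fin 2) F) = 1
    rcases Cfsg.Lib.PSLTwoDihedral.π_eq_one_iff.1 h1 with e | e <;> rw [e] <;> simp
  have h2m : 2 * m ∣ o := by
    rw [show 4 * m = 2 * (2 * m) by ring] at h4
    exact Nat.dvd_of_mul_dvd_mul_left two_pos h4
  have ho4 : o ∣ 4 * m := hog ▸ orderOf_map_dvd _ g.1
  have ho0 : 0 < o := orderOf_pos x
  obtain ⟨j, hj⟩ : 2 ∣ o := (dvd_mul_right 2 m).trans h2m
  refine ⟨x ^ j, x ^ 4, ?_, ?_, ?_, Commute.pow_pow (Commute.refl x) j 4⟩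
  · refine orderOf_eq_prime (by rw [← pow_mul, mul_comm, ← hj, pow_orderOf_eq_one]) fun e => ?_
    have := Nat.le_of_dvd (by omega) (orderOf_dvd_of_pow_eq_one e)
    rw [← ho] at this
    omega
  · intro e
    have h1 : 2 * m ∣ 4 := h2m.trans (orderOf_dvd_of_pow_eq_one e)
    have h2 := Nat.le_of_dvd (by norm_num) h1
    obtain ⟨k, rfl⟩ := hm
    omega
  · refine hm.of_dvd_nat (orderOf_dvd_of_pow_eq_one ?_)
    rw [← pow_mul]
    exact orderOf_dvd_iff_pow_eq_one.1 ho4

variable {G : Type u} [Group G] [Finite G]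

theorem j1_of_jr [IsSimpleGroup G] (hG : Uniq G) (hab : ∀ S : Sylow 2 G, IsMulCommutative ↥(S : Subgroup G))
    (hJ : Cfsg.Lib.Walter.IsJR G) : Cfsg.IsJ1 G := by
  classical
  haveI : Fact (Nat.Prime 2) := ⟨Nat.prime_two⟩
  obtain ⟨h8card, t, E, E₀, F, iF, iFt, h5, h8, hH⟩ := hJ
  obtain ⟨T, a, b, n, Sy⟩ := Cfsg.Lib.AbCentMax.exists_sys hH hab
  have htW : t ∈ Wz T := mem_Wz.2 ⟨mem_Zc.2 ⟨Sy.tT, fun s hs => Sy.tcomm s hs t Sy.tT⟩, hH.tt⟩
  have hat : a ≠ t := fun e => hH.disj (e ▸ hH.le Sy.aE)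
  have ha1 : a ≠ 1 := fun e => by have := Sy.ao; rw [e, orderOf_one] at this; omega
  -- the four-group lies in `T` only
  have hnorm : ∀ y : G, Commute y t → Commute y a → y ∈ normalizer ((T : Subgroup G) : Set G) := fun y hyt hya =>
    mem_norm_of_comm hG htW hH.t_ne Sy.aT (Cfsg.Lib.AbCentMax.aa hH Sy) ha1 hat hyt.eq hya.eq
  have hno : ∀ y ∈ E₀, Odd (orderOf y) → Commute y a → y = 1 := by
    intro y hy hodd hya
    have hi := hH.inverts Sy.aE Sy.ao Sy.bE Sy.bo Sy.ne (Sy.tcomm a Sy.aT b Sy.bT) hy hodd hya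
    have hby : b * y⁻¹ = y * b := by
      calc b * y⁻¹ = b * (b * y * b⁻¹) := by rw [hi]
        _ = b * b * (y * b⁻¹) := by group
        _ = y * b := by rw [Cfsg.Lib.AbCentMax.bb hH Sy, one_mul,
              inv_eq_of_mul_eq_one_right (Cfsg.Lib.AbCentMax.bb hH Sy)]
    have h1 := (mem_normalizer_iff.1 (hnorm y (hH.comm y (hH.le hy)).symm hya) b).1 Sy.bT
    have h2 : y * y ∈ (T : Subgroup G) := by
      have := (T : Subgroup G).mul_mem h1 ((T : Subgroup G).inv_mem Sy.bT)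
      rwa [show y * b * y⁻¹ * b⁻¹ = y * (b * y⁻¹) * b⁻¹ by group, hby, show y * (y * b) * b⁻¹ = y * y by group] at this
    obtain ⟨k, hk⟩ := T.2.exists_orderOf_eq_pow ⟨_, h2⟩
    rw [Subgroup.orderOf_mk] at hk
    have h3 : orderOf (y * y) ∣ orderOf y := by rw [← pow_two]; exact orderOf_pow_dvd 2
    have h4 : y * y = 1 := orderOf_eq_one_iff.1 (Nat.eq_one_of_dvd_coprimes
      ((Nat.coprime_two_left.2 hodd).pow_left k) hk.dvd h3)
    obtain ⟨r, hr⟩ := Cfsg.Lib.AbCentMax.eq_sq_pow hodd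
    rw [hr, h4, one_pow]
  obtain ⟨f⟩ := hH.iso
  -- the field has five elements
  have hq5 : Fintype.card F = 5 := by
    by_contra hne
    obtain ⟨a', y, ha', hy1, hyo, hc⟩ := exists_odd_commuting h8 (by omega)
    obtain ⟨g, hg, hga⟩ := hH.conj (f.symm a').2
      (show orderOf ((f.symm a' : E₀) : G) = 2 by rw [orderOf_coe, MulEquiv.orderOf_eq, ha']) Sy.aE Sy.ao
    refine hy1 ?_
    have hy' := hno (g * (f.symm y : E₀) * g⁻¹) (mul_mem (mul_mem hg (f.symm y).2) (inv_mem hg))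
      (by
        rw [show g * ((f.symm y : E₀) : G) * g⁻¹ = MulAut.conj g ((f.symm y : E₀) : G) from rfl, MulEquiv.orderOf_eq,
          orderOf_coe, MulEquiv.orderOf_eq]
        exact hyo)
      (by
        rw [← hga]
        exact ((((hc.symm).map f.symm.toMonoidHom).map E₀.subtype).map (MulAut.conj g).toMonoidHom))
    have h1 : f.symm y = 1 := Subtype.ext (conj_eq_one_iff.1 hy')
    simpa using congrArg f h1
  have hc60 : Nat.card ↥E₀ = 60 := by
    rw [Nat.card_congr f.toEquiv]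
    have h := Cfsg.Lib.Classical.SmallPSL.card_psl hq5
    rw [show Nat.gcd 2 (5 - 1) = 2 from rfl, show 5 * (5 ^ 2 - 1) = 120 from rfl] at h
    omega
  have h60 : 60 ∣ Nat.card ↥E := hc60 ▸ card_dvd_of_le hH.le
  -- `E` is its linear fractional part
  have hE120 : Nat.card ↥E ∣ 120 := by
    have hEN : E ≤ normalizer (E₀ : Set G) := fun e he => mem_normalizer_fintype fun x hx => hH.norm e he x hx
    set ψ := E₀.normalizerMonoidHom.comp (inclusion hEN) with hψ
    have hinj : Function.Injective ψ := (injective_iff_map_eq_one ψ).2 fun e he => Subtype.ext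
      (hH.faith e e.2 fun x hx => mul_inv_eq_iff_eq_mul.1 (show (e : G) * x * (e : G)⁻¹ = x from
        congrArg Subtype.val (DFunLike.congr_fun he ⟨x, hx⟩ : (ψ e) ⟨x, hx⟩ = (1 : MulAut ↥E₀) ⟨x, hx⟩)))
    refine (card_dvd_of_injective ψ hinj).trans (dvd_of_eq ?_)
    haveI : Fact (Nat.Prime 5) := ⟨by norm_num⟩
    rw [Nat.card_congr (MulAut.congr f).toEquiv, Cfsg.Agent.S0813.result 5 1 le_rfl (by rw [hq5, pow_one]) 2 le_rfl
      (fun _ => by norm_num), if_pos rfl, one_mul, one_mul, Cfsg.Lib.Classical.card_PGL,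
      Cfsg.Lib.Classical.SLTwoTori.card_SL2, hq5]
    norm_num
  have hE : E = E₀ := by
    refine (eq_of_le_of_card_ge hH.le (le_of_eq ?_)).symm
    have hle := Nat.le_of_dvd (by norm_num) hE120
    have h0 : 0 < Nat.card ↥E := Nat.card_pos
    obtain ⟨c, hc⟩ := h60
    obtain rfl | rfl : c = 1 ∨ c = 2 := by omega
    · rw [hc, hc60]
    exfalso
    obtain ⟨R, hR⟩ := Sylow.exists_subgroup_card_pow_prime (G := ↥E) 2 (n := 3) (by rw [hc]; norm_num)
    set R' := R.map E.subtype with hR'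
    have hR8 : Nat.card ↥R' = 8 := by rw [hR', card_map_of_injective E.subtype_injective, hR]; norm_num
    have hp : IsPGroup 2 ↥(zpowers t ⊔ R') := by
      refine IsPGroup.to_sup_of_normal_right' (IsPGroup.of_card (n := 1) (by rw [Nat.card_zpowers, hH.ord, pow_one]))
        (IsPGroup.of_card (n := 3) hR8) (zpowers_le.2 (mem_normalizer_fintype fun x hx => ?_))
      obtain ⟨e, he, rfl⟩ := hx
      rw [show t * E.subtype e * t⁻¹ = E.subtype e by
        rw [(hH.comm (E.subtype e) e.2).eq, mul_inv_cancel_right]]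
      exact ⟨e, he, rfl⟩
    obtain ⟨Q, hQ⟩ := hp.exists_le_sylow
    have heq : R' = (Q : Subgroup G) :=
      eq_of_le_of_card_ge (le_sup_right.trans hQ) (by rw [h8card Q, hR8])
    exact hH.disj (map_subtype_le R (heq.ge (hQ (mem_sup_left (mem_zpowers t)))))
  -- the centraliser
  obtain ⟨g5⟩ := Cfsg.Lib.Classical.SmallPSL.psl_five (F := F) hq5
  let e₁ : Multiplicative (ZMod 2) ≃* ↥(zpowers t) :=
    (MulEquiv.cast (M := fun k : ℕ => Multiplicative (ZMod k))
      (show Nat.card ↥(zpowers t) = 2 by rw [Nat.card_zpowers, hH.ord])).symm.trans (zmodCyclicMulEquiv inferInstance)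
  let ψ : Multiplicative (ZMod 2) × alternatingGroup (Fin 5) →* G :=
    MonoidHom.noncommCoprod ((zpowers t).subtype.comp e₁.toMonoidHom)
      (E₀.subtype.comp (g5.symm.trans f.symm).toMonoidHom) fun k x => by
      obtain ⟨i, hi⟩ := mem_zpowers_iff.1 (e₁ k).2
      show Commute ((e₁ k : ↥(zpowers t)) : G) _
      rw [← hi]
      exact (hH.comm _ (hH.le (f.symm (g5.symm x)).2)).zpow_left i
  have hψval : ∀ k x, ψ (k, x) = ((e₁ k : ↥(zpowers t)) : G) * ((f.symm (g5.symm x) : E₀) : G) := fun k x => rfl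
  have hψC : ∀ p, ψ p ∈ centralizer ({t} : Set G) := fun ⟨k, x⟩ => by
    rw [hψval]
    refine mul_mem ?_ (mem_centralizer_singleton_iff.2 (hH.comm _ (hH.le (f.symm (g5.symm x)).2)).eq.symm)
    obtain ⟨i, hi⟩ := mem_zpowers_iff.1 (e₁ k).2
    rw [← hi]
    exact zpow_mem (mem_centralizer_singleton_iff.2 rfl) i
  have hψbij : Function.Bijective (ψ.codRestrict (centralizer ({t} : Set G)) hψC) := by
    refine ⟨(injective_iff_map_eq_one _).2 fun ⟨k, x⟩ hkx => ?_, fun ⟨c, hc⟩ => ?_⟩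
    · have h1 : ((e₁ k : ↥(zpowers t)) : G) * ((f.symm (g5.symm x) : E₀) : G) = 1 := congrArg Subtype.val hkx
      have hmem : ((e₁ k : ↥(zpowers t)) : G) ∈ E := by
        rw [eq_inv_of_mul_eq_one_left h1]; exact inv_mem (hH.le (f.symm (g5.symm x)).2)
      have hk : ((e₁ k : ↥(zpowers t)) : G) = 1 := by
        obtain ⟨i, hi⟩ := mem_zpowers_iff.1 (e₁ k).2
        rw [← hi] at hmem ⊢
        rcases Int.even_or_odd i with ⟨c, rfl⟩ | ⟨c, rfl⟩
        · rw [← two_mul, zpow_mul, zpow_two, hH.tt, one_zpow]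
        · exfalso
          rw [zpow_add, zpow_mul, zpow_two, hH.tt, one_zpow, one_mul, zpow_one] at hmem
          exact hH.disj hmem
      rw [hk, one_mul] at h1
      refine Prod.ext (e₁.injective ((Subtype.ext hk : e₁ k = 1).trans (map_one e₁).symm))
        (g5.symm.injective (f.symm.injective ((Subtype.ext h1 : f.symm (g5.symm x) = 1).trans (by simp))))
    · obtain ⟨e, he, hce⟩ := hH.split c (mem_centralizer_singleton_iff.1 hc)
      rw [hE] at he
      rcases hce with r | r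
      · exact ⟨(1, g5 (f ⟨e, he⟩)), Subtype.ext (show ψ _ = c by
          rw [hψval, map_one, g5.symm_apply_apply, f.symm_apply_apply, r]; exact one_mul e)⟩
      · exact ⟨(e₁.symm ⟨t, mem_zpowers t⟩, g5 (f ⟨e, he⟩)), Subtype.ext (show ψ _ = c by
          rw [hψval, e₁.apply_symm_apply, g5.symm_apply_apply, f.symm_apply_apply, r])⟩
  exact Cfsg.Agent.S0448.result t ⟨hH.ord, T, Sy.tT, fun x hx => Sy.tcomm x hx t Sy.tT⟩
    (MulEquiv.ofBijective _ hψbij).symm

end Cfsg.Lib.SylowRankOne
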