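import Cfsg.Agent.SylowRankOne.Embedded
import Cfsg.Agent.SylowRankOne.Abelian
import Cfsg.Agent.Walter.Main
import Cfsg.Agent.Walter.Consumers.Intersections

/-!
The simple groups with the uniqueness property.
-/

set_option autoImplicit false
set_option linter.unusedSectionVars false
set_option linter.style.haveILetI false

namespace Cfsg.Lib.SylowRankOne

open Subgroup Cfsg.Lib.Walter.CI

universe u

/-- The five kinds of groups in the conclusion of row 3185. -/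
def Target (G : Type u) [Group G] : Prop :=
    (∃ (n : ℕ) (F : Type) (_ : Field F) (_ : Fintype F), 2 ≤ n ∧ Fintype.card F = 2 ^ n ∧
        Nonempty (G ≃* Matrix.ProjectiveSpecialLinearGroup (Fin 2) F)) ∨
    (∃ (m : ℕ) (F : Type) (_ : Field F) (_ : Fintype F), 1 ≤ m ∧ Fintype.card F = 2 ^ (2 * m + 1) ∧
        Nonempty (G ≃* ↥(Cfsg.Lie.Sz F (2 ^ (m + 1))))) ∨
    (∃ (n : ℕ) (F : Type) (_ : Field F) (_ : Fintype F), 2 ≤ n ∧ Fintype.card F = 4 ^ n ∧
        Nonempty (G ≃* Cfsg.PSU 3 F (2 ^ n))) ∨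
    (∃ (F : Type) (_ : Field F) (_ : Fintype F), (Fintype.card F % 8 = 3 ∨ Fintype.card F % 8 = 5) ∧
        5 < Fintype.card F ∧ Nonempty (G ≃* Matrix.ProjectiveSpecialLinearGroup (Fin 2) F)) ∨
    Cfsg.IsJ1 G

theorem target_of_ident {G : Type u} [Group G] (h : Cfsg.Lib.BenderSuzuki.Ident G) : Target G := by
  rcases h with ⟨F, _, _, ⟨n, hn, hF⟩, he⟩ | ⟨F, i, j, m, hm, hF, he⟩ | ⟨F, i, j, n, hn, hF, he⟩
  · exact Or.inl ⟨n, F, inferInstance, inferInstance, hn, hF, he⟩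
  · exact Or.inr (Or.inl ⟨m, F, i, j, hm, hF, he⟩)
  · refine Or.inr (Or.inr (Or.inl ⟨n, F, i, j, hn, ?_, he⟩))
    rw [hF, ← pow_mul, mul_comm, pow_mul]
    norm_num

theorem target_of_uniq (lyons : Cfsg.Lib.Lyons.LyonsProp.{u}) {G : Type u} [Group G] [Finite G] [IsSimpleGroup G]
    (hna : ¬ IsMulCommutative G) (hG : Uniq G) : Target G := by
  haveI : Fact (Nat.Prime 2) := ⟨Nat.prime_two⟩
  obtain ⟨S⟩ : Nonempty (Sylow 2 G) := inferInstance
  by_cases hS : IsMulCommutative ↥(S : Subgroup G)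
  swap
  · exact target_of_ident (Cfsg.Lib.Walter.Consumers.ident_of_embedded hna
      (exists_embedded lyons (Cfsg.Lib.Walter.Consumers.elemProp_of_walter Cfsg.Lib.Walter.walterProp) G hna hG S hS))
  have hall : ∀ T : Sylow 2 G, IsMulCommutative ↥(T : Subgroup G) := fun T => by
    haveI := hS
    exact ⟨⟨fun a b => (S.equiv T).symm.injective (by rw [map_mul, map_mul]; exact mul_comm' _ _)⟩⟩
  have hab : Cfsg.Lib.Walter.AbTwo G := fun T x hx y hy => by
    haveI := hall T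
    exact congrArg Subtype.val (mul_comm' (⟨x, hx⟩ : ↥(T : Subgroup G)) ⟨y, hy⟩)
  rcases Cfsg.Lib.Walter.walterProp G hna hab with ⟨F, i, j, ⟨n, hn, hF⟩, he⟩ | ⟨F, i, j, h8, h5, ⟨e⟩⟩ | hJ
  · exact Or.inl ⟨n, F, i, j, hn, hF, he⟩
  · by_cases h : Fintype.card F = 5
    · obtain ⟨f⟩ := Cfsg.Lib.Classical.SmallPSL.psl_five (F := F) h
      letI := Fintype.ofFinite (GaloisField 2 2)
      obtain ⟨g⟩ := Cfsg.Lib.Classical.SmallPSL.psl_four (F := GaloisField 2 2)
        (by rw [← Nat.card_eq_fintype_card, GaloisField.card 2 2 two_ne_zero]; norm_num)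
      exact Or.inl ⟨2, GaloisField 2 2, inferInstance, inferInstance, le_rfl,
        by rw [← Nat.card_eq_fintype_card, GaloisField.card 2 2 two_ne_zero], ⟨(e.trans f).trans g.symm⟩⟩
    · exact Or.inr (Or.inr (Or.inr (Or.inl ⟨F, i, j, h8, by omega, ⟨e⟩⟩)))
  · exact Or.inr (Or.inr (Or.inr (Or.inr (j1_of_jr hG hall hJ))))

end Cfsg.Lib.SylowRankOne
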