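import Cfsg.Agent.SylowRankOne.Four

/-!
Nonabelian Sylow 2-subgroups: a strongly embedded subgroup exists.
-/

set_option autoImplicit false
set_option linter.unusedSectionVars false
set_option linter.style.haveILetI false

namespace Cfsg.Lib.SylowRankOne

open Subgroup Cfsg.Lib.Walter.CI

universe u

theorem normalizer_sylow_ne_top {G : Type u} [Group G] [Finite G] [IsSimpleGroup G] (hna : ¬ IsMulCommutative G)
    (S : Sylow 2 G) : normalizer ((S : Subgroup G) : Set G) ≠ ⊤ := fun h => hna (by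
  haveI := solvable_normalizer S
  rw [h] at this
  haveI : Group.IsSolvable G :=
    Group.isSolvable_of_surjective (f := (topEquiv (G := G)).toMonoidHom) topEquiv.surjective
  exact ⟨⟨fun a b => IsSimpleGroup.comm_iff_isSolvable.2 inferInstance a b⟩⟩)

theorem wz_ne_bot {G : Type u} [Group G] [Finite G] (S : Sylow 2 G) (hne : (S : Subgroup G) ≠ ⊥) : Wz S ≠ ⊥ := by
  haveI : Fact (Nat.Prime 2) := ⟨Nat.prime_two⟩
  haveI : Nontrivial ↥(S : Subgroup G) := (S : Subgroup G).nontrivial_iff_ne_bot.2 hne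
  haveI := S.2.center_nontrivial
  obtain ⟨k, hk⟩ := IsPGroup.iff_card.1 (S.2.to_subgroup (center ↥(S : Subgroup G)))
  have hk0 : k ≠ 0 := fun e => by
    rw [e, pow_zero] at hk
    exact absurd (Finite.card_le_one_iff_subsingleton.1 hk.le) (not_subsingleton _)
  obtain ⟨c, hc⟩ := exists_prime_orderOf_dvd_card' (G := center ↥(S : Subgroup G)) 2 (hk ▸ dvd_pow_self 2 hk0)
  intro h
  have hm : ((c : ↥(S : Subgroup G)) : G) ∈ Wz S :=
    mem_Wz.2 ⟨mem_Zc.2 ⟨(c : ↥(S : Subgroup G)).2, fun s hs => congrArg Subtype.val (mem_center_iff.1 c.2 ⟨s, hs⟩)⟩, by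
      have := congrArg (fun a : center ↥(S : Subgroup G) => ((a : ↥(S : Subgroup G)) : G)) (pow_orderOf_eq_one c)
      rw [hc] at this
      rw [← pow_two]; simpa using this⟩
  rw [h, mem_bot] at hm
  rw [show c = 1 from Subtype.ext (Subtype.ext hm), orderOf_one] at hc
  omega

theorem exists_embedded (lyons : Cfsg.Lib.Lyons.LyonsProp.{u}) (elem : ElemProp.{u}) (G : Type u) [Group G]
    [Finite G] [IsSimpleGroup G] (hna : ¬ IsMulCommutative G) (hG : Uniq G) (S : Sylow 2 G)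
    (hS : ¬ IsMulCommutative ↥(S : Subgroup G)) : ∃ H : Subgroup G, Cfsg.IsStronglyEmbedded H := by
  haveI : Fact (Nat.Prime 2) := ⟨Nat.prime_two⟩
  have hne : Wz S ≠ ⊥ := wz_ne_bot S fun e => hS (by
    haveI : Subsingleton ↥(S : Subgroup G) := by rw [e]; infer_instance
    exact ⟨⟨fun a b => Subsingleton.elim _ _⟩⟩)
  have hmove : ∀ z ∈ Wz S, z ≠ 1 → ∃ n ∈ normalizer ((S : Subgroup G) : Set G), n * z * n⁻¹ ≠ z := by
    intro z hz hz1
    obtain ⟨g, hg, hgne⟩ := exists_conj hna hz hz1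
    obtain ⟨n, hn, e⟩ := fusion hG hne hz hg
    exact ⟨n, hn, e ▸ hgne⟩
  obtain ⟨⟨z₀, hz₀⟩, hz₀1⟩ := Subgroup.ne_bot_iff_exists_ne_one.1 hne
  replace hz₀1 : z₀ ≠ 1 := fun e => hz₀1 (Subtype.ext e)
  by_cases hA : (∀ x ∈ (S : Subgroup G), x * x = 1 → x ∈ Wz S) ∧ Nat.card ↥(Wz S) = 4
  · obtain ⟨n, hn, hne'⟩ := hmove z₀ hz₀ hz₀1
    obtain ⟨g, hg, hodd, hgne⟩ := exists_odd_moving (mem_Zc.1 hz₀.1).2 hn hne'
    refine lyons G S (Cfsg.Lib.Lyons.uFour_of_three S.2 ?_ (fun x hx hx2 y hy => ?_) ?_ hg hodd hz₀.1.1 hz₀.2 hgne)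
    · by_contra hno
      push Not at hno
      exact hS ⟨⟨fun a b => Subtype.ext (hno a a.2 b b.2)⟩⟩
    · exact (mem_Zc.1 (hA.1 x hx hx2).1).2 y hy
    · rw [← hA.2]
      exact Nat.card_congr (Equiv.subtypeEquivRight fun x => ⟨fun h => hA.1 x h.1 h.2, fun h => ⟨h.1.1, h.2⟩⟩)
  have hother : ∀ z ∈ Wz S, z ≠ 1 → ∃ w ∈ Wz S, w ≠ 1 ∧ w ≠ z := fun z hz hz1 => by
    obtain ⟨n, hn, h⟩ := hmove z hz hz1
    exact ⟨_, Wz_conj S hn hz, fun e => hz1 (conj_eq_one_iff.1 e), h⟩
  have hfour : ∀ z ∈ Wz S, z ≠ 1 → ∀ o ∈ Cfsg.centralizerPPrimeCore 2 z, ∀ s ∈ (S : Subgroup G), o * s = s * o := by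
    intro z hz hz1
    obtain ⟨w, hw, hw1, hwz⟩ := hother z hz hz1
    have hzc : ∀ a ∈ (S : Subgroup G), a * z = z * a := (mem_Zc.1 hz.1).2
    by_cases hB : ∀ x ∈ (S : Subgroup G), x * x = 1 → x ∈ Wz S
    · have h4 : Nat.card ↥(Wz S) ≠ 4 := fun e => hA ⟨hB, e⟩
      obtain ⟨v, hv, hv1, hvz, hvw, hvwz⟩ : ∃ v ∈ Wz S, v ≠ 1 ∧ v ≠ z ∧ v ≠ w ∧ v ≠ w * z := by
        by_contra hno
        push Not at hno
        obtain ⟨k, hk⟩ := IsPGroup.iff_card.1 (S.2.to_le (Wz_le S))
        have hsub : (Wz S : Set G).ncard ≤ ({1, z, w, w * z} : Set G).ncard := by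
          refine Set.ncard_le_ncard (fun v hv => ?_) (Set.toFinite _)
          by_cases a : v = 1
          · exact Or.inl a
          by_cases b : v = z
          · exact Or.inr (Or.inl b)
          by_cases c : v = w
          · exact Or.inr (Or.inr (Or.inl c))
          exact Or.inr (Or.inr (Or.inr (hno v hv a b c)))
        have h4' : ({1, z, w, w * z} : Set G).ncard ≤ 4 :=
          (Set.ncard_insert_le _ _).trans (Nat.add_le_add_right ((Set.ncard_insert_le _ _).trans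
            (Nat.add_le_add_right ((Set.ncard_insert_le _ _).trans
              (Nat.add_le_add_right (Set.ncard_singleton _).le 1)) 1)) 1)
        have hle : Nat.card ↥(Wz S) ≤ 4 := (Nat.card_coe_set_eq (Wz S : Set G)).le.trans (hsub.trans h4')
        have h3 : 3 ≤ Nat.card ↥(Wz S) := by
          let f : Fin 3 → ↥(Wz S) := ![1, ⟨z, hz⟩, ⟨w, hw⟩]
          have hf : Function.Injective f := by
            intro i j e
            have e' : ((f i : ↥(Wz S)) : G) = f j := by rw [e]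
            fin_cases i <;> fin_cases j <;> simp [f] at e' <;>
              first | rfl | exact absurd e' hz1 | exact absurd e'.symm hz1 | exact absurd e' hw1 | exact absurd e'.symm hw1 | exact absurd e' hwz | exact absurd e'.symm hwz
          simpa using Nat.card_le_card_of_injective f hf
        rw [hk] at hle h3 h4
        rcases k with _ | _ | _ | k
        · rw [pow_zero] at h3; omega
        · rw [pow_one] at h3; omega
        · exact h4 rfl
        · have := Nat.one_le_two_pow (n := k)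
          rw [pow_add, pow_add, pow_add] at hle
          omega
      refine core_comm hG hz hz1 hw.1.1 hw.2 hv.1.1 hv.2 ((mem_Zc.1 hv.1).2 w hw.1.1) hw1 hv1 hvw.symm hwz hvz ?_
      intro e
      refine hvwz ?_
      rw [← e, ← mul_assoc, hw.2, one_mul]
    · push Not at hB
      obtain ⟨x, hx, hx2, hxW⟩ := hB
      refine core_comm hG hz hz1 hw.1.1 hw.2 hx hx2 ((mem_Zc.1 hw.1).2 x hx).symm hw1 (fun e => hxW (e ▸ one_mem _))
        (fun e => hxW (e ▸ hw)) hwz (fun e => hxW (e ▸ hz)) fun e => hxW ?_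
      rw [show x = w * z by rw [← e, ← mul_assoc, hw.2, one_mul]]
      exact mul_mem hw hz
  by_cases hbig : ∃ z ∈ Wz S, z ≠ 1 ∧ ¬ centralizer ({z} : Set G) ≤ normalizer ((S : Subgroup G) : Set G)
  · exfalso
    obtain ⟨z, hz, hz1, hb⟩ := hbig
    obtain ⟨K, P, H, D⟩ := exists_tower hG hne ⟨hz, hz1, hfour z hz hz1, hb, hother z hz hz1⟩
    exact D.absurd_tower hG elem hS (hmove z hz hz1)
  push Not at hbig
  refine Cfsg.Agent.S1174.result S (Wz S) hne ⟨Wz_le S, fun x hx g hg => mem_Wz_conj hG hne hx hg⟩ fun htop => ?_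
  refine normalizer_sylow_ne_top hna S (top_le_iff.1 (htop.ge.trans (iSup_le fun t => ?_)))
  exact hbig t t.2.1 fun e => by have := t.2.2; rw [e, orderOf_one] at this; omega

end Cfsg.Lib.SylowRankOne
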