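import Cfsg.Agent.SylowRankOne.Almost
import Cfsg.Agent.S3305

/-!
Cyclic Sylow 2-intersections: the structure over the solvable radical (row 3308).
-/

set_option autoImplicit false
set_option linter.unusedSectionVars false
set_option linter.style.haveILetI false

namespace Cfsg.Lib.SylowRankOne

open Subgroup Cfsg.Lib.CyclicInter

universe u

theorem target_congr {A B : Type u} [Group A] [Group B] (e : A ≃* B) (h : Target B) : Target A := by
  rcases h with ⟨n, F, i, j, hn, hF, ⟨f⟩⟩ | ⟨n, F, i, j, hn, hF, ⟨f⟩⟩ | ⟨n, F, i, j, hn, hF, ⟨f⟩⟩ |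
    ⟨F, i, j, h8, h5, ⟨f⟩⟩ | ⟨hs, hc⟩
  · exact Or.inl ⟨n, F, i, j, hn, hF, ⟨e.trans f⟩⟩
  · exact Or.inr (Or.inl ⟨n, F, i, j, hn, hF, ⟨e.trans f⟩⟩)
  · exact Or.inr (Or.inr (Or.inl ⟨n, F, i, j, hn, hF, ⟨e.trans f⟩⟩))
  · exact Or.inr (Or.inr (Or.inr (Or.inl ⟨F, i, j, h8, h5, ⟨e.trans f⟩⟩)))
  · haveI := hs
    haveI : Nontrivial A := e.toEquiv.nontrivial
    exact Or.inr (Or.inr (Or.inr (Or.inr
      ⟨IsSimpleGroup.isSimpleGroup_of_surjective e.symm.toMonoidHom e.symm.surjective,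
        (Nat.card_congr e.toEquiv).trans hc⟩)))

theorem radical_structure (lyons : Cfsg.Lib.Lyons.LyonsProp.{u}) {G : Type u} [Group G] [Finite G]
    (hns : ¬ Group.IsSolvable G) (hC : CycInter G) (R : Subgroup G) [R.Normal] (hR : Group.IsSolvable ↥R)
    (hRmax : ∀ N : Subgroup G, N.Normal → Group.IsSolvable ↥N → N ≤ R) :
    ∃ (G₁ : Subgroup G) (_ : G₁.Normal) (_ : (R.subgroupOf G₁).Normal), Odd G₁.index ∧ R ≤ G₁ ∧
      IsSimpleGroup (↥G₁ ⧸ R.subgroupOf G₁) ∧ ¬ IsMulCommutative (↥G₁ ⧸ R.subgroupOf G₁) ∧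
      Target (↥G₁ ⧸ R.subgroupOf G₁) := by
  classical
  haveI := hR
  set π := QuotientGroup.mk' R with hπ
  have hπs : Function.Surjective π := QuotientGroup.mk'_surjective R
  haveI : Nontrivial (G ⧸ R) := by
    by_contra h
    rw [not_nontrivial_iff_subsingleton] at h
    have htop : R = ⊤ := (eq_top_iff' R).2 fun g => (QuotientGroup.eq_one_iff g).1 (Subsingleton.elim _ _)
    exact hns (Group.isSolvable_of_surjective (f := ((MulEquiv.subgroupCongr htop).trans topEquiv).toMonoidHom)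
      (MulEquiv.surjective _))
  have hrad : ∀ N : Subgroup (G ⧸ R), N.Normal → Group.IsSolvable ↥N → N = ⊥ := by
    intro N hN hNs
    haveI := hN
    haveI := hNs
    have hle : R ≤ N.comap π := fun r hr => by
      rw [mem_comap, show π r = 1 from (QuotientGroup.eq_one_iff r).2 hr]; exact one_mem N
    have hs : Group.IsSolvable ↥(N.comap π) :=
      Group.isSolvable_of_ker_le_range (inclusion hle) (π.subgroupComap N) fun x hx => by
        rw [MonoidHom.mem_ker] at hx
        exact ⟨⟨x.1, (QuotientGroup.eq_one_iff x.1).1 (congrArg Subtype.val hx)⟩, rfl⟩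
    refine (eq_bot_iff_forall _).2 fun y hy => ?_
    obtain ⟨g, rfl⟩ := hπs y
    exact (QuotientGroup.eq_one_iff g).2 (hRmax (N.comap π) inferInstance hs hy)
  obtain ⟨M, hMn, hMs, hMna, hCM⟩ := exists_socle (Cfsg.Agent.S3305.result hC R) hrad
  haveI := hMn
  haveI := hMs
  set G₁ := M.comap π with hG₁
  haveI hRn : (R.subgroupOf G₁).Normal := inferInstance
  have hRG : R ≤ G₁ := fun r hr => by
    rw [hG₁, mem_comap, show π r = 1 from (QuotientGroup.eq_one_iff r).2 hr]; exact one_mem M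
  set ψ := π.subgroupComap M with hψ
  have hψs : Function.Surjective ψ := fun ⟨y, hy⟩ => by
    obtain ⟨g, rfl⟩ := hπs y
    exact ⟨⟨g, hy⟩, rfl⟩
  have hker : R.subgroupOf G₁ = ψ.ker := by
    ext x
    rw [mem_subgroupOf, MonoidHom.mem_ker]
    exact ⟨fun h => Subtype.ext ((QuotientGroup.eq_one_iff x.1).2 h),
      fun h => (QuotientGroup.eq_one_iff x.1).1 (congrArg Subtype.val h)⟩
  let e : ↥G₁ ⧸ R.subgroupOf G₁ ≃* ↥M :=
    (QuotientGroup.quotientMulEquivOfEq hker).trans (QuotientGroup.quotientKerEquivOfSurjective ψ hψs)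
  refine ⟨G₁, inferInstance, hRn, ?_, hRG, ?_, fun h => hMna ?_, target_congr e
    (target_of_uniq lyons hMna (uniq_of_cycInter (cycInter_subgroup (Cfsg.Agent.S3305.result hC R) M)))⟩
  · rw [hG₁, index_comap_of_surjective _ hπs]
    exact socle_index lyons (Cfsg.Agent.S3305.result hC R) M hMna hCM
  · haveI : Nontrivial (↥G₁ ⧸ R.subgroupOf G₁) := e.toEquiv.nontrivial
    exact IsSimpleGroup.isSimpleGroup_of_surjective e.symm.toMonoidHom e.symm.surjective
  · haveI := h
    exact ⟨⟨fun a b => e.symm.injective (by rw [map_mul, map_mul]; exact mul_comm' _ _)⟩⟩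

end Cfsg.Lib.SylowRankOne
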