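import Cfsg.Agent.SylowRankOne.Main
import Cfsg.Agent.CyclicInter.Main
import Cfsg.Agent.Components.GenFitting
import Cfsg.Agent.S4593

/-!
Cyclic Sylow 2-intersections and trivial solvable radical: the socle is simple of odd index (row 3308).
-/

set_option autoImplicit false
set_option linter.unusedSectionVars false
set_option linter.style.haveILetI false

namespace Cfsg.Lib.SylowRankOne

open Subgroup Cfsg.Lib.Walter.CI Cfsg.Lib.CyclicInter
open scoped Pointwise

universe u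

variable {Q : Type u} [Group Q] [Finite Q]

theorem cycInter_subgroup (hC : CycInter Q) (A : Subgroup Q) : CycInter ↥A := by
  intro S T hST
  obtain ⟨S', hS'⟩ := (S.2.map A.subtype).exists_le_sylow
  obtain ⟨T', hT'⟩ := (T.2.map A.subtype).exists_le_sylow
  have hmax : ∀ {U : Sylow 2 ↥A} {U' : Sylow 2 Q}, (U : Subgroup ↥A).map A.subtype ≤ (U' : Subgroup Q) →
      (U : Subgroup ↥A) = (U' : Subgroup Q).subgroupOf A := fun {U U'} h =>
    (U.3 (U'.2.comap_subtype (K := A)) (map_le_iff_le_comap.1 h)).symm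
  haveI := hC S' T' fun e => hST (Sylow.ext (by rw [hmax hS', hmax hT', e]))
  let f : ↥((S : Subgroup ↥A) ⊓ (T : Subgroup ↥A)) →* ↥((S' : Subgroup Q) ⊓ (T' : Subgroup Q)) :=
    MonoidHom.mk' (fun x => ⟨((x : ↥A) : Q), hS' ⟨_, (mem_inf.1 x.2).1, rfl⟩, hT' ⟨_, (mem_inf.1 x.2).2, rfl⟩⟩)
      fun _ _ => rfl
  exact isCyclic_of_injective f fun x y e => Subtype.ext (Subtype.ext (congrArg Subtype.val e :))

theorem uniq_of_cycInter (hC : CycInter Q) : Uniq Q := by
  refine uniq_of_hyp fun S T hST _ A _ hA => ?_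
  haveI := hC S T hST
  obtain ⟨g, hg⟩ := IsCyclic.exists_generator (α := ↥A)
  rw [← orderOf_eq_card_of_forall_mem_zpowers hg, pow_one]
  exact Nat.le_of_dvd two_pos (orderOf_dvd_of_pow_eq_one (Subtype.ext (hA g g.2)))

/-- two commuting nonsolvable subgroups cannot occur -/
theorem false_of_commuting (hC : CycInter Q) {A B : Subgroup Q} (hAB : ∀ a ∈ A, ∀ b ∈ B, a * b = b * a)
    (hA : ¬ Group.IsSolvable A) (hB : ¬ Group.IsSolvable B) : False := by
  haveI : Fact (Nat.Prime 2) := ⟨Nat.prime_two⟩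
  obtain ⟨P⟩ : Nonempty (Sylow 2 ↥B) := inferInstance
  obtain ⟨A₁⟩ : Nonempty (Sylow 2 ↥A) := inferInstance
  obtain ⟨A₂, hne⟩ := CyclicInter.exists_ne hA A₁
  set P' := (P : Subgroup ↥B).map B.subtype with hP'
  have hnorm : ∀ U : Sylow 2 ↥A, ∃ S : Sylow 2 Q, (U : Subgroup ↥A).map A.subtype ≤ S ∧ P' ≤ S := by
    intro U
    have hp : IsPGroup 2 ↥((U : Subgroup ↥A).map A.subtype ⊔ P') := by
      refine (U.2.map _).to_sup_of_normal_right' (P.2.map _) ?_
      rintro _ ⟨a, -, rfl⟩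
      refine mem_normalizer_fintype fun x hx => ?_
      obtain ⟨b, hb, rfl⟩ := hx
      exact ⟨b, hb, show (b : Q) = (a : Q) * b * (a : Q)⁻¹ by rw [hAB a a.2 b b.2, mul_inv_cancel_right]⟩
    obtain ⟨S, hS⟩ := hp.exists_le_sylow
    exact ⟨S, le_sup_left.trans hS, le_sup_right.trans hS⟩
  obtain ⟨S₁, h11, h12⟩ := hnorm A₁
  obtain ⟨S₂, h21, h22⟩ := hnorm A₂
  haveI := hC S₁ S₂ fun e => hne (Sylow.ext (by
    have e1 := A₁.3 (S₁.2.comap_subtype (K := A)) (map_le_iff_le_comap.1 h11)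
    have e2 := A₂.3 (S₂.2.comap_subtype (K := A)) (map_le_iff_le_comap.1 h21)
    rw [← e1, ← e2, e]))
  let f : ↥(P : Subgroup ↥B) →* ↥((S₁ : Subgroup Q) ⊓ (S₂ : Subgroup Q)) :=
    MonoidHom.mk' (fun x => ⟨((x : ↥B) : Q), h12 ⟨_, x.2, rfl⟩, h22 ⟨_, x.2, rfl⟩⟩) fun _ _ => rfl
  exact hB (solvable_of_cyclic P (isCyclic_of_injective f fun x y e =>
    Subtype.ext (Subtype.ext (congrArg Subtype.val e :))))

theorem exists_socle (hC : CycInter Q) [Nontrivial Q]
    (hrad : ∀ N : Subgroup Q, N.Normal → Group.IsSolvable ↥N → N = ⊥) :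
    ∃ M : Subgroup Q, M.Normal ∧ IsSimpleGroup ↥M ∧ ¬ IsMulCommutative ↥M ∧ centralizer (M : Set Q) = ⊥ := by
  obtain ⟨M, -, hMn, hMne, hmin⟩ :=
    Cfsg.Lib.Coprime.exists_minimal_normal (inferInstance : (⊤ : Subgroup Q).Normal) top_ne_bot
  haveI := hMn
  haveI : Nontrivial ↥M := M.nontrivial_iff_ne_bot.2 hMne
  have hMns : ¬ Group.IsSolvable ↥M := fun h => hMne (hrad M hMn h)
  have key : ∀ A : Subgroup ↥M, A.Normal → A ≠ ⊥ →
      (∀ D : Subgroup ↥M, D.Normal → D ≤ A → D = ⊥ ∨ D = A) → A = ⊤ := by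
    intro A hAn hAne hAmin
    haveI := hAn
    have hAns : ¬ Group.IsSolvable ↥(A.map M.subtype) := by
      intro hs
      haveI := hs
      have hsA : Group.IsSolvable ↥A :=
        Group.isSolvable_of_isSolvable_injective
          (f := (A.equivMapOfInjective M.subtype M.subtype_injective).toMonoidHom) (MulEquiv.injective _)
      obtain ⟨hab, -⟩ := Cfsg.Lib.Coprime.minimal_normal_solvable hsA hAne hAmin
      haveI := hab
      haveI : Group.IsNilpotent ↥(A.map M.subtype) := by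
        letI : CommGroup ↥A := { (inferInstance : Group ↥A) with mul_comm := fun a b => mul_comm' a b }
        exact Cfsg.Lib.Components.isNilpotent_map inferInstance M.subtype
      have hsub : (A.map M.subtype).IsSubnormal :=
        Subgroup.IsSubnormal.step (A.map M.subtype) M (map_subtype_le A) hMn.isSubnormal (by
          rw [show (A.map M.subtype).subgroupOf M = A from comap_map_eq_self_of_injective M.subtype_injective A]
          exact hAn)
      have hle := Cfsg.Lib.Components.le_fitting_of_subnormal hsub inferInstance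
      rw [hrad (Cfsg.fittingSubgroup Q) (Cfsg.Lib.Components.normal_of_mem_sSup_normal (fun N hN => hN.1))
        (Cfsg.Lib.Components.isSolvable_fitting (G := Q)), le_bot_iff] at hle
      exact hAne ((map_eq_bot_iff_of_injective _ M.subtype_injective).1 hle)
    -- conjugates
    have hconj : ∀ g : Q, (A.map M.subtype).map (MulAut.conj g).toMonoidHom ≤ A.map M.subtype := by
      intro g
      set B := A.map (MulAut.conjNormal g : MulAut ↥M).toMonoidHom with hB
      haveI : B.Normal := hAn.map _ (MulAut.conjNormal g : MulAut ↥M).surjective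
      have hval : (A.map M.subtype).map (MulAut.conj g).toMonoidHom = B.map M.subtype := by
        rw [hB, map_map, map_map]
        congr 1
      rw [hval]
      refine map_mono ?_
      rcases hAmin (A ⊓ B) inferInstance inf_le_left with h | h
      · exfalso
        refine false_of_commuting hC (A := A.map M.subtype) (B := B.map M.subtype) ?_ hAns ?_
        · rintro _ ⟨a, ha, rfl⟩ _ ⟨b, hb, rfl⟩
          exact congrArg Subtype.val
            (Subgroup.commute_of_normal_of_disjoint A B hAn inferInstance (disjoint_iff.2 h) a b ha hb).eq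
        · intro hs
          refine hAns ?_
          haveI := hs
          rw [← hval] at hs
          exact Group.isSolvable_of_isSolvable_injective (f := ((A.map M.subtype).equivMapOfInjective
            (MulAut.conj g).toMonoidHom (MulAut.conj g).injective).toMonoidHom) (MulEquiv.injective _)
      · have h1 : A ≤ B := inf_eq_left.1 h
        exact (eq_of_le_of_card_ge h1 (le_of_eq (card_map_of_injective
          (MulAut.conjNormal g : MulAut ↥M).injective))).ge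
    haveI : (A.map M.subtype).Normal := ⟨fun x hx g => hconj g (mem_map_of_mem _ hx)⟩
    rcases hmin (A.map M.subtype) inferInstance (map_subtype_le A) with h | h
    · exact absurd ((map_eq_bot_iff_of_injective _ M.subtype_injective).1 h) hAne
    · refine map_injective M.subtype_injective (h.trans ?_)
      rw [← MonoidHom.range_eq_map, range_subtype]
  have hsimple : IsSimpleGroup ↥M := by
    refine IsSimpleGroup.mk fun D hD => ?_
    by_cases hb : D = ⊥
    · exact Or.inl hb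
    obtain ⟨A, hAD, hAn, hAne, hAmin⟩ := Cfsg.Lib.Coprime.exists_minimal_normal hD hb
    exact Or.inr (top_le_iff.1 ((key A hAn hAne hAmin).ge.trans hAD))
  refine ⟨M, hMn, hsimple, fun h => hMns ?_, ?_⟩
  · haveI := h
    letI : CommGroup ↥M := { (inferInstance : Group ↥M) with mul_comm := fun a b => mul_comm' a b }
    infer_instance
  · by_contra hne
    exact false_of_commuting hC (A := centralizer (M : Set Q)) (B := M)
      (fun a ha b hb => (mem_centralizer_iff.1 ha b hb).symm) (fun h => hne (hrad _ inferInstance h)) hMns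

/-- the socle has odd index -/
theorem socle_index (lyons : Cfsg.Lib.Lyons.LyonsProp.{u}) (hC : CycInter Q) (M : Subgroup Q) [M.Normal]
    [IsSimpleGroup ↥M] (hna : ¬ IsMulCommutative ↥M) (hCM : centralizer (M : Set Q) = ⊥) : Odd M.index := by
  haveI : Fact (Nat.Prime 2) := ⟨Nat.prime_two⟩
  have hMns : ¬ Group.IsSolvable ↥M := fun h =>
    hna ⟨⟨fun a b => IsSimpleGroup.comm_iff_isSolvable.2 h a b⟩⟩
  obtain ⟨S⟩ : Nonempty (Sylow 2 Q) := inferInstance
  suffices hle : (S : Subgroup Q) ≤ M by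
    rw [← Nat.not_even_iff_odd, even_iff_two_dvd]
    exact fun h => S.not_dvd_index (h.trans (index_dvd_of_le hle))
  intro s hs
  obtain ⟨P, hP⟩ : ∃ P : Sylow 2 ↥M, (P : Subgroup ↥M) = (S : Subgroup Q).subgroupOf M :=
    ⟨(S.2.comap_subtype (K := M)).toSylow (by
      obtain ⟨U, hU⟩ := Cfsg.Agent.S0542.result 2 M (Subgroup.Normal.isSubnormal inferInstance) S
      have := U.not_dvd_index
      rwa [hU] at this), rfl⟩
  have hmemP : ∀ {x : ↥M}, x ∈ (P : Subgroup ↥M) ↔ (x : Q) ∈ (S : Subgroup Q) := fun {x} => by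
    rw [hP, mem_subgroupOf]
  set P₀ := (S : Subgroup Q) ⊓ M with hP₀
  -- the normaliser of the intersection normalises `S`
  have hP0c : ¬ IsCyclic ↥(P : Subgroup ↥M) := fun h => hMns (solvable_of_cyclic P h)
  have hnorm : ∀ g : Q, (∀ x ∈ P₀, g * x * g⁻¹ ∈ P₀) → g ∈ normalizer ((S : Subgroup Q) : Set Q) := by
    intro g hg
    refine Sylow.smul_eq_iff_mem_normalizer.1 (by_contra fun hne => hP0c ?_)
    haveI := hC (g • S) S hne
    have hsub : ∀ x : ↥(P : Subgroup ↥M), ((x : ↥M) : Q) ∈ ((g • S : Sylow 2 Q) : Subgroup Q) ⊓ (S : Subgroup Q) := by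
      intro x
      have hx : ((x : ↥M) : Q) ∈ P₀ := ⟨hmemP.1 x.2, (x : ↥M).2⟩
      have hmap : P₀.map (MulAut.conj g).toMonoidHom ≤ P₀ := by
        rintro _ ⟨y, hy, rfl⟩
        exact hg y hy
      obtain ⟨y, hy, e⟩ := (eq_of_le_of_card_ge hmap (le_of_eq
        (card_map_of_injective (MulAut.conj g).injective).symm)).ge hx
      refine mem_inf.2 ⟨?_, hx.1⟩
      rw [Sylow.coe_subgroup_smul, ← e]
      exact ⟨y, hy.1, rfl⟩
    let f : ↥(P : Subgroup ↥M) →* ↥(((g • S : Sylow 2 Q) : Subgroup Q) ⊓ (S : Subgroup Q)) :=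
      MonoidHom.mk' (fun x => ⟨((x : ↥M) : Q), hsub x⟩) fun _ _ => rfl
    exact isCyclic_of_injective f fun x y e => Subtype.ext (Subtype.ext (congrArg Subtype.val e :))
  have hSP : ∀ g ∈ (S : Subgroup Q), ∀ x ∈ P₀, g * x * g⁻¹ ∈ P₀ := fun g hg x hx =>
    mem_inf.2 ⟨mul_mem (mul_mem hg hx.1) (inv_mem hg), (inferInstance : M.Normal).conj_mem x hx.2 g⟩
  have hPN : ∀ n : ↥M, n ∈ normalizer ((P : Subgroup ↥M) : Set ↥M) →
      (n : Q) ∈ normalizer ((S : Subgroup Q) : Set Q) := fun n hn => hnorm n fun x hx => by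
    have h1 := (mem_normalizer_iff.1 hn ⟨x, hx.2⟩).1 (hmemP.2 hx.1)
    exact ⟨hmemP.1 h1, (n * ⟨x, hx.2⟩ * n⁻¹ : ↥M).2⟩
  -- the induced automorphisms
  have hfaith : ∀ d : Q, (MulAut.conjNormal d : MulAut ↥M) = 1 → d = 1 := fun d hd => by
    have : d ∈ centralizer (M : Set Q) := mem_centralizer_iff.2 fun x hx => by
      have := congrArg Subtype.val (DFunLike.congr_fun hd ⟨x, hx⟩)
      rw [MulAut.conjNormal_apply, MulAut.one_apply] at this
      exact (mul_inv_eq_iff_eq_mul.1 this).symm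
    rwa [hCM, mem_bot] at this
  have htwo : ∀ d ∈ (S : Subgroup Q), ∃ j, (MulAut.conjNormal d : MulAut ↥M) ^ 2 ^ j = 1 := fun d hd => by
    obtain ⟨j, hj⟩ := S.2.exists_orderOf_eq_pow ⟨d, hd⟩
    rw [Subgroup.orderOf_mk] at hj
    exact ⟨j, by rw [← map_pow, ← hj, pow_orderOf_eq_one, map_one]⟩
  by_cases hab : IsMulCommutative ↥(P : Subgroup ↥M)
  · -- abelian intersection
    have hel := Cfsg.Lib.Walter.Consumers.elemProp_of_walter Cfsg.Lib.Walter.walterProp ↥M hna P hab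
    set A : Subgroup ↥M := (P : Subgroup ↥M) ⊓ (centralizer ((S : Subgroup Q) : Set Q)).subgroupOf M with hA
    have hAinv : ∀ n ∈ normalizer ((P : Subgroup ↥M) : Set ↥M), ∀ a ∈ A, n * a * n⁻¹ ∈ A := by
      intro n hn a ha
      refine mem_inf.2 ⟨(mem_normalizer_iff.1 hn a).1 (mem_inf.1 ha).1, mem_centralizer_iff.2 fun x hx => ?_⟩
      have h1 : (n : Q)⁻¹ * x * n ∈ (S : Subgroup Q) := (mem_normalizer_iff''.1 (hPN n hn) x).1 hx
      have h2 : (n : Q)⁻¹ * x * n * a = a * ((n : Q)⁻¹ * x * n) :=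
        mem_centralizer_iff.1 (mem_inf.1 ha).2 _ h1
      show x * ((n : Q) * a * (n : Q)⁻¹) = (n : Q) * a * (n : Q)⁻¹ * x
      calc x * ((n : Q) * a * (n : Q)⁻¹) = (n : Q) * ((n : Q)⁻¹ * x * n * a) * (n : Q)⁻¹ := by group
        _ = _ := by rw [h2]; group
    have hAtop : A = (P : Subgroup ↥M) := by
      refine (irreducible hna P hel A inf_le_left hAinv).resolve_left fun hA0 => ?_
      -- the centre of `S` meets `P₀`
      set N := P₀.subgroupOf (S : Subgroup Q) with hN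
      haveI hn : N.Normal := ⟨fun x hx g => hSP g g.2 x hx⟩
      have hNne : N ≠ ⊥ := fun e => hP0c (by
        haveI : Subsingleton ↥(P : Subgroup ↥M) := ⟨fun a b => by
          have key : ∀ a : ↥(P : Subgroup ↥M), a = 1 := fun a => by
            have hm : (⟨((a : ↥M) : Q), hmemP.1 a.2⟩ : ↥(S : Subgroup Q)) ∈ N :=
              mem_inf.2 ⟨hmemP.1 a.2, (a : ↥M).2⟩
            rw [e, mem_bot] at hm
            exact Subtype.ext (Subtype.ext (congrArg Subtype.val hm :))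
          rw [key a, key b]⟩
        infer_instance)
      haveI : Group.IsNilpotent ↥(S : Subgroup Q) := S.2.isNilpotent
      obtain ⟨⟨x, hxN, hxc⟩, hx1⟩ :=
        Subgroup.ne_bot_iff_exists_ne_one.1 (Cfsg.Lib.Coprime.inf_center_ne_bot N hNne)
      have hxM : (x : Q) ∈ M := (mem_inf.1 (show (x : Q) ∈ P₀ from hxN)).2
      have hmA : (⟨x.1, hxM⟩ : ↥M) ∈ A :=
        mem_inf.2 ⟨hmemP.2 x.2, mem_centralizer_iff.2 fun y hy => congrArg Subtype.val (mem_center_iff.1 hxc ⟨y, hy⟩)⟩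
      rw [hA0, mem_bot] at hmA
      exact hx1 (Subtype.ext (Subtype.ext (congrArg Subtype.val hmA :)))
    have hfix : ∀ x ∈ (P : Subgroup ↥M), (MulAut.conjNormal s : MulAut ↥M) x = x := fun x hx => by
      refine Subtype.ext ?_
      rw [MulAut.conjNormal_apply, show s * (x : Q) = x * s from mem_centralizer_iff.1 (mem_inf.1 (hAtop.ge hx)).2 s hs,
        mul_inv_cancel_right]
    have hZ : center ↥M = ⊥ :=
      (IsSimpleGroup.eq_bot_or_eq_top_of_normal _ inferInstance).resolve_right fun e => hna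
        ⟨⟨fun a b => mem_center_iff.1 (e.ge (mem_top b)) a⟩⟩
    obtain ⟨j, hj⟩ := htwo s hs
    obtain ⟨i, -, hi⟩ := (Nat.dvd_prime_pow Nat.prime_two).1 (orderOf_dvd_of_pow_eq_one hj)
    obtain ⟨g, hg⟩ := Cfsg.Agent.S4593.result hZ (oddCore_bot hna) P hab _ ⟨i, hi⟩ hfix
    have : (g : Q)⁻¹ * s = 1 := hfaith _ (MulEquiv.ext fun x => by
      rw [map_mul, MulAut.mul_apply, hg, ← Subtype.coe_inj, MulAut.conjNormal_apply, MulAut.one_apply]
      push_cast
      group)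
    rw [← inv_mul_eq_one.1 this]
    exact g.2
  -- nonabelian intersection
  by_contra hsM
  obtain ⟨H, hH⟩ := exists_pair hna (exists_embedded lyons
    (Cfsg.Lib.Walter.Consumers.elemProp_of_walter Cfsg.Lib.Walter.walterProp) ↥M hna
    (uniq_of_cycInter (cycInter_subgroup hC M)) P hab) P
  have hHN : ∀ n : ↥M, n ∈ H → (n : Q) ∈ normalizer ((S : Subgroup Q) : Set Q) := fun n hn =>
    hPN n (hH.norm.symm ▸ hn)
  have hNH : ∀ n : ↥M, (n : Q) ∈ normalizer ((S : Subgroup Q) : Set Q) → n ∈ H := fun n hn => by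
    rw [← hH.norm]
    exact mem_normalizer_fintype fun x hx => hmemP.2 ((mem_normalizer_iff.1 hn (x : Q)).1 (hmemP.1 hx))
  obtain ⟨g₀, hg₀⟩ : ∃ g₀ : ↥M, g₀ ∉ H := by
    by_contra h
    push Not at h
    exact hH.se.1 ((eq_top_iff' H).2 h)
  -- the two-point stabiliser meets `M` trivially
  have hDM : ∀ x : ↥M, (x : Q) ∈ (S : Subgroup Q) → (g₀ : Q)⁻¹ * x * g₀ ∈ (S : Subgroup Q) → x = 1 := by
    intro x hx hxg
    have hodd := hH.se.2.2 g₀ hg₀
    have hxI : x ∈ H ⊓ H.map (MulAut.conj g₀).toMonoidHom :=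
      mem_inf.2 ⟨hNH x (le_normalizer hx), g₀⁻¹ * x * g₀, hNH _ (le_normalizer hxg),
        show g₀ * (g₀⁻¹ * x * g₀) * g₀⁻¹ = x by group⟩
    obtain ⟨k, hk⟩ := S.2.exists_orderOf_eq_pow ⟨x, hx⟩
    rw [Subgroup.orderOf_mk, orderOf_coe] at hk
    exact orderOf_eq_one_iff.1 (Nat.eq_one_of_dvd_coprimes ((Nat.coprime_two_left.2 hodd).pow_left k) hk.dvd
      (orderOf_dvd_natCard _ hxI))
  -- an element of it outside `M`
  obtain ⟨d, hdS, hdg, hdM⟩ : ∃ d, d ∈ (S : Subgroup Q) ∧ (g₀ : Q)⁻¹ * d * g₀ ∈ (S : Subgroup Q) ∧ d ∉ M := by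
    set g₁ : ↥M := MulAut.conjNormal s⁻¹ g₀ with hg₁
    have hval : (g₁ : Q) = s⁻¹ * g₀ * s⁻¹⁻¹ := MulAut.conjNormal_apply _ _
    have hsN : s ∈ normalizer ((S : Subgroup Q) : Set Q) := le_normalizer hs
    have hg₁H : g₁ ∉ H := fun h => hg₀ (hNH g₀ (by
      have h1 := mul_mem (mul_mem hsN (hHN g₁ h)) (inv_mem hsN)
      rwa [hval, show s * (s⁻¹ * (g₀ : Q) * s⁻¹⁻¹) * s⁻¹ = g₀ by group] at h1))
    obtain ⟨u, hu, hmem⟩ := hH.trans g₀ g₁ hg₀ hg₁H
    have hn := mul_mem hsN (hHN _ hmem)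
    have he : s * ((g₁⁻¹ * (u * g₀) : ↥M) : Q) = (g₀ : Q)⁻¹ * (s * u) * g₀ := by
      push_cast
      rw [hval]; group
    rw [he] at hn
    have hd : s * u ∈ (S : Subgroup Q) := mul_mem hs (hmemP.1 hu)
    refine ⟨s * u, hd, ?_, fun h => hsM ?_⟩
    · obtain ⟨k, hk⟩ := S.2.exists_orderOf_eq_pow ⟨s * u, hd⟩
      rw [Subgroup.orderOf_mk] at hk
      have hp : IsPGroup 2 ↥(zpowers ((g₀ : Q)⁻¹ * (s * u) * g₀)) := IsPGroup.of_card (n := k) (by
        rw [Nat.card_zpowers, ← hk]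
        have := Cfsg.Lib.Isolated.orderOf_conj' (g₀ : Q)⁻¹ (s * (u : Q))
        rwa [inv_inv] at this)
      exact (S.3 (hp.to_sup_of_normal_right' S.isPGroup' (zpowers_le.2 hn)) le_sup_right).le
        (mem_sup_left (mem_zpowers _))
    · have := M.mul_mem h (inv_mem u.2)
      rwa [mul_inv_cancel_right] at this
  -- take the involution
  set D := (S : Subgroup Q) ⊓ (S : Subgroup Q).map (MulAut.conj (g₀ : Q)).toMonoidHom with hD
  have hmemD : ∀ {x : Q}, x ∈ D → x ∈ (S : Subgroup Q) ∧ (g₀ : Q)⁻¹ * x * g₀ ∈ (S : Subgroup Q) := by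
    intro x hx
    obtain ⟨y, hy, rfl⟩ := (mem_inf.1 hx).2
    refine ⟨(mem_inf.1 hx).1, ?_⟩
    rw [show (g₀ : Q)⁻¹ * (MulAut.conj (g₀ : Q)).toMonoidHom y * g₀ = y by
      show (g₀ : Q)⁻¹ * ((g₀ : Q) * y * (g₀ : Q)⁻¹) * g₀ = y
      group]
    exact hy
  have hdD : d ∈ D := mem_inf.2 ⟨hdS, _, hdg,
    show (g₀ : Q) * ((g₀ : Q)⁻¹ * d * g₀) * (g₀ : Q)⁻¹ = d by group⟩
  obtain ⟨k, hk⟩ := S.2.exists_orderOf_eq_pow ⟨d, hdS⟩
  rw [Subgroup.orderOf_mk] at hk
  have hk0 : k ≠ 0 := fun e => hdM (by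
    rw [e, pow_zero, orderOf_eq_one_iff] at hk
    rw [hk]; exact one_mem M)
  set i₂ := d ^ 2 ^ (k - 1) with hi₂
  have hi₂D := hmemD (D.pow_mem hdD (2 ^ (k - 1)))
  have hi₂2 : orderOf i₂ = 2 := by
    rw [hi₂, orderOf_pow_of_dvd (pow_ne_zero _ two_ne_zero) (hk ▸ pow_dvd_pow 2 (Nat.sub_le k 1)), hk,
      Nat.pow_div (Nat.sub_le k 1) two_pos, show k - (k - 1) = 1 by omega, pow_one]
  set α : MulAut ↥M := MulAut.conjNormal i₂ with hα
  have hα1 : α ≠ 1 := fun e => by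
    rw [hfaith _ e, orderOf_one] at hi₂2
    omega
  have hii : i₂ * i₂ = 1 := by rw [← pow_two, ← hi₂2, pow_orderOf_eq_one]
  have hαα : ∀ x, α (α x) = x := fun x => by
    rw [← MulAut.mul_apply, hα, ← map_mul, hii, map_one, MulAut.one_apply]
  have hval : ∀ x : ↥M, (α x : Q) = i₂ * x * i₂⁻¹ := fun x => MulAut.conjNormal_apply _ _
  have hαP : ∀ x ∈ (P : Subgroup ↥M), α x ∈ (P : Subgroup ↥M) := fun x hx => hmemP.2 (by
    rw [hval]; exact mul_mem (mul_mem hi₂D.1 (hmemP.1 hx)) (inv_mem hi₂D.1))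
  have hD' : ∀ e ∈ H, g₀⁻¹ * e * g₀ ∈ H → α e = e := by
    intro e he heg
    have h1 := hHN e he
    have h2 : (g₀ : Q)⁻¹ * e * g₀ ∈ normalizer ((S : Subgroup Q) : Set Q) := hHN _ heg
    refine mul_inv_eq_one.1 (hDM _ ?_ ?_)
    · push_cast
      rw [hval, show i₂ * (e : Q) * i₂⁻¹ * (e : Q)⁻¹ = i₂ * ((e : Q) * i₂⁻¹ * (e : Q)⁻¹) by group]
      exact mul_mem hi₂D.1 ((mem_normalizer_iff.1 h1 _).1 (inv_mem hi₂D.1))
    · push_cast
      rw [hval, show (g₀ : Q)⁻¹ * (i₂ * (e : Q) * i₂⁻¹ * (e : Q)⁻¹) * g₀ = (g₀ : Q)⁻¹ * i₂ * g₀ *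
        ((g₀ : Q)⁻¹ * e * g₀ * ((g₀ : Q)⁻¹ * i₂ * g₀)⁻¹ * ((g₀ : Q)⁻¹ * e * g₀)⁻¹) by group]
      exact mul_mem hi₂D.2 ((mem_normalizer_iff.1 h2 _).1 (inv_mem hi₂D.2))
  have hsq : ∀ {x : ↥M}, orderOf x = 2 → x * x = 1 := fun hx => by rw [← pow_two, ← hx, pow_orderOf_eq_one]
  refine hα1 (rigid hna hH.se ⟨1, MulEquiv.ext fun x => by rw [pow_one, pow_two, MulAut.mul_apply, hαα,
    MulAut.one_apply]⟩ (fun x hx => hNH _ (by
      rw [hval]
      exact mul_mem (mul_mem (le_normalizer hi₂D.1) (hHN x hx)) (inv_mem (le_normalizer hi₂D.1))))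
    hg₀ (hNH _ (le_normalizer (by
      push_cast
      rw [hval, ← mul_assoc, ← mul_assoc]
      exact mul_mem hi₂D.2 (inv_mem hi₂D.1)))) (fun i hi hi2 => ?_) hD')
  -- a fixed involution
  obtain ⟨i₀, hi₀, hi₀2, hfix⟩ : ∃ i₀ ∈ (P : Subgroup ↥M), orderOf i₀ = 2 ∧ α i₀ = i₀ := by
    have hiP := (hH.qinvol i hi2 hi).1
    by_cases h : α i = i
    · exact ⟨i, hiP, hi2, h⟩
    have hcom : α i * i = i * α i := ((hH.qinvol i hi2 hi).2 _ (hαP i hiP)).symm
    refine ⟨i * α i, mul_mem hiP (hαP i hiP), orderOf_eq_prime ?_ fun e => h ?_, ?_⟩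
    · rw [pow_two, show i * α i * (i * α i) = i * (α i * i) * α i by group, hcom,
        show i * (i * α i) * α i = i * i * (α i * α i) by group, hsq hi2, ← map_mul, hsq hi2, map_one, one_mul]
    · rw [eq_inv_of_mul_eq_one_right e]
      exact inv_eq_of_mul_eq_one_right (hsq hi2)
    · rw [map_mul, hαα, hcom]
  obtain ⟨h, hh, he⟩ := hH.fuse i₀ hi₀ i (hH.qinvol i hi2 hi).1 hi₀2 hi2
  have hhg : h * g₀ ∉ H := fun hm => hg₀ (by simpa using H.mul_mem (inv_mem hh) hm)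
  obtain ⟨u, hu, hmem⟩ := hH.trans g₀ (h * g₀) hg₀ hhg
  set t := h⁻¹ * u with ht
  have huH : u ∈ H := hH.norm.le (le_normalizer hu)
  have htH : t ∈ H := H.mul_mem (inv_mem hh) huH
  have htg : g₀⁻¹ * t * g₀ ∈ H := by
    rw [ht, show g₀⁻¹ * (h⁻¹ * u) * g₀ = (h * g₀)⁻¹ * (u * g₀) by group]
    exact hmem
  set j := t⁻¹ * i₀ * t with hj
  have hj2 : orderOf j = 2 := by
    rw [hj, ← hi₀2]
    have := Cfsg.Lib.Isolated.orderOf_conj' t⁻¹ i₀
    rwa [inv_inv] at this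
  have hjH : j ∈ H := H.mul_mem (H.mul_mem (inv_mem htH) (hH.norm.le (le_normalizer hi₀))) htH
  have hju : u * j = j * u := ((hH.qinvol j hj2 hjH).2 u hu).symm
  have hij : i = j := by
    rw [← he, show h * i₀ * h⁻¹ = u * j * u⁻¹ by rw [hj, ht]; group, hju, mul_inv_cancel_right]
  rw [hij, hj, map_mul, map_mul, map_inv, hfix, hD' t htH htg]

end Cfsg.Lib.SylowRankOne
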