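import Cfsg.Agent.Walter.CI.Average
import Cfsg.Agent.Walter.CI.Component
import Cfsg.Agent.RankOne.Inverted
import Cfsg.Prelude.Def_CaseTheorems

/-!
Groups in which a four-group with a 2-central involution lies in one Sylow 2-subgroup only (rows 3185 and 3308):
first properties.
-/

set_option autoImplicit false
set_option linter.unusedSectionVars false
set_option linter.style.haveILetI false

namespace Cfsg.Lib.SylowRankOne

open Subgroup Cfsg.Lib.Walter.CI
open scoped Pointwise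

universe u

variable {G : Type u} [Group G] [Finite G]

/-- A four-group containing a 2-central involution lies in one Sylow 2-subgroup only. -/
def Uniq (G : Type u) [Group G] [Finite G] : Prop :=
  ∀ (U S T : Sylow 2 G) (z u : G), z ∈ Wz U → z ≠ 1 → u * u = 1 → u ≠ 1 → u ≠ z → u * z = z * u →
    z ∈ (S : Subgroup G) → u ∈ (S : Subgroup G) → z ∈ (T : Subgroup G) → u ∈ (T : Subgroup G) → S = T

theorem uniq_of_hyp
    (h : ∀ S T : Sylow 2 G, S ≠ T →
      ((S : Subgroup G) ⊓ (T : Subgroup G) = ⊥ ∨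
        ∃ z ∈ (S : Subgroup G) ⊓ (T : Subgroup G), orderOf z = 2 ∧
          ∃ U : Sylow 2 G, z ∈ (Subgroup.center ↥(U : Subgroup G)).map (U : Subgroup G).subtype) →
      Cfsg.PRankLE 2 1 ↥((S : Subgroup G) ⊓ (T : Subgroup G))) : Uniq G := by
  intro U S T z u hz hz1 hu2 hu1 hne hc hzS huS hzT huT
  by_contra hST
  set D := (S : Subgroup G) ⊓ (T : Subgroup G) with hD
  have hr := h S T hST (Or.inr ⟨z, ⟨hzS, hzT⟩, orderOf_eq_prime (by rw [pow_two]; exact hz.2) hz1, U,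
    ⟨⟨z, hz.1.1⟩, mem_center_iff.2 fun s => Subtype.ext ((mem_Zc.1 hz.1).2 s s.2), rfl⟩⟩)
  set a : D := ⟨z, hzS, hzT⟩ with ha
  set b : D := ⟨u, huS, huT⟩ with hb
  have hab : a * b = b * a := Subtype.ext hc.symm
  set A : Subgroup D := closure {a, b} with hA
  haveI : IsMulCommutative A := isMulCommutative_closure (by
    rintro x (rfl | rfl) y (rfl | rfl)
    exacts [rfl, hab, hab.symm, rfl])
  have h4 := hr A inferInstance fun x hx => by
    refine closure_induction (p := fun x _ => x ^ 2 = 1) ?_ (one_pow _) ?_ ?_ hx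
    · rintro x (rfl | rfl)
      · exact Subtype.ext (by rw [SubmonoidClass.coe_pow, pow_two]; exact hz.2)
      · exact Subtype.ext (by rw [SubmonoidClass.coe_pow, pow_two]; exact hu2)
    · intro x y hx hy hx2 hy2
      have hcm : Commute x y := congrArg Subtype.val (mul_comm' (⟨x, hx⟩ : A) ⟨y, hy⟩)
      rw [hcm.mul_pow, hx2, hy2, one_mul]
    · intro x _ hx2
      rw [inv_pow, hx2, inv_one]
  have hle : 3 ≤ Nat.card A := by
    let f : Fin 3 → A := ![1, ⟨a, subset_closure (Or.inl rfl)⟩, ⟨b, subset_closure (Or.inr rfl)⟩]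
    have hf : Function.Injective f := by
      intro i j e
      have e' : ((f i : D) : G) = ((f j : D) : G) := by rw [e]
      fin_cases i <;> fin_cases j <;>
        simp [f, ha, hb] at e' <;>
        first | rfl | exact absurd e' hz1 | exact absurd e'.symm hz1 | exact absurd e' hu1 | exact absurd e'.symm hu1 | exact absurd e' hne | exact absurd e'.symm hne
    simpa using Nat.card_le_card_of_injective f hf
  exact absurd (hle.trans h4) (by norm_num)

/-- the centraliser contains a Sylow subgroup -/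
theorem le_centralizer_of_Zc {S : Sylow 2 G} {z : G} (hz : z ∈ Zc S) :
    (S : Subgroup G) ≤ centralizer ({z} : Set G) :=
  fun s hs => mem_centralizer_singleton_iff.2 ((mem_Zc.1 hz).2 s hs)

variable (hG : Uniq G) {S : Sylow 2 G}
include hG

/-- an involution of the centre of some Sylow 2-subgroup lying in `S` is central in `S` -/
theorem mem_Wz_of_central (hne : Wz S ≠ ⊥) {U : Sylow 2 G} {u : G} (hu : u ∈ Wz U) (huS : u ∈ (S : Subgroup G)) :
    u ∈ Wz S := by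
  haveI : Fact (Nat.Prime 2) := ⟨Nat.prime_two⟩
  by_cases hu1 : u = 1
  · rw [hu1]; exact one_mem _
  obtain ⟨⟨z, hz⟩, hz1⟩ := Subgroup.ne_bot_iff_exists_ne_one.1 hne
  replace hz1 : z ≠ 1 := fun e => hz1 (Subtype.ext e)
  by_cases huz : u = z
  · rw [huz]; exact hz
  set C := centralizer ({u} : Set G) with hC
  have hc : u * z = z * u := (mem_Zc.1 hz.1).2 u huS
  -- a Sylow subgroup of the centraliser containing both
  set U' := U.subtype (le_centralizer_of_Zc hu.1)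
  let V : Subgroup G := zpowers z ⊔ zpowers u
  have hVC : V ≤ C := sup_le (zpowers_le.2 (mem_centralizer_singleton_iff.2 hc.symm))
    (zpowers_le.2 (mem_centralizer_singleton_iff.2 rfl))
  have hV : IsPGroup 2 V :=
    S.2.to_le (sup_le (zpowers_le.2 hz.1.1) (zpowers_le.2 huS))
  obtain ⟨c, hcC, hmap⟩ :=
    Cfsg.Lib.ZStarApps.exists_conj_mem_sylow U (le_centralizer_of_Zc hu.1) hV hVC
  set T := c⁻¹ • U with hT
  have hmem : ∀ x, c * x * c⁻¹ ∈ (U : Subgroup G) → x ∈ (T : Subgroup G) := fun x hx => by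
    rw [hT, Sylow.coe_subgroup_smul]
    exact ⟨c * x * c⁻¹, hx, show c⁻¹ * (c * x * c⁻¹) * c⁻¹⁻¹ = x by group⟩
  have e := hG S S T z u hz hz1 hu.2 hu1 huz hc hz.1.1 huS
    (hmem z (hmap z (mem_sup_left (mem_zpowers z)))) (hmem u (hmap u (mem_sup_right (mem_zpowers u))))
  refine mem_Wz.2 ⟨mem_Zc.2 ⟨huS, fun s hs => ?_⟩, hu.2⟩
  rw [e, hT, Sylow.coe_subgroup_smul] at hs
  obtain ⟨y, hy, rfl⟩ := hs
  show c⁻¹ * y * c⁻¹⁻¹ * u = u * (c⁻¹ * y * c⁻¹⁻¹)
  have hcu : c * u = u * c := mem_centralizer_singleton_iff.1 hcC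
  calc c⁻¹ * y * c⁻¹⁻¹ * u = c⁻¹ * (y * (c * u * c⁻¹)) * c := by group
    _ = c⁻¹ * (c * u * c⁻¹ * y) * c := by
      rw [show c * u * c⁻¹ = u by rw [hcu, mul_inv_cancel_right], (mem_Zc.1 hu.1).2 y hy]
    _ = _ := by group

/-- the central involutions are strongly closed -/
theorem mem_Wz_conj (hne : Wz S ≠ ⊥) {x g : G} (hx : x ∈ Wz S) (hg : g * x * g⁻¹ ∈ (S : Subgroup G)) :
    g * x * g⁻¹ ∈ Wz S := by
  refine mem_Wz_of_central hG hne (U := g • S) (mem_Wz.2 ⟨mem_Zc.2 ⟨?_, fun s hs => ?_⟩, ?_⟩) hg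
  · rw [Sylow.coe_subgroup_smul]; exact ⟨x, hx.1.1, rfl⟩
  · rw [Sylow.coe_subgroup_smul] at hs
    obtain ⟨y, hy, rfl⟩ := hs
    show g * y * g⁻¹ * (g * x * g⁻¹) = g * x * g⁻¹ * (g * y * g⁻¹)
    calc g * y * g⁻¹ * (g * x * g⁻¹) = g * (y * x) * g⁻¹ := by group
      _ = _ := by rw [(mem_Zc.1 hx.1).2 y hy]; group
  · rw [show g * x * g⁻¹ * (g * x * g⁻¹) = g * (x * x) * g⁻¹ by group, hx.2, mul_one, mul_inv_cancel]

/-- an element of `C(z)` which keeps a second involution inside `S` normalises `S` -/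
theorem mem_norm_of_conj {z u g : G} (hz : z ∈ Wz S) (hz1 : z ≠ 1) (hu : u ∈ (S : Subgroup G)) (hu2 : u * u = 1)
    (hu1 : u ≠ 1) (huz : u ≠ z) (hgz : g * z = z * g) (hgu : g * u * g⁻¹ ∈ (S : Subgroup G)) :
    g ∈ normalizer ((S : Subgroup G) : Set G) := by
  refine Sylow.smul_eq_iff_mem_normalizer.1 (Eq.symm ?_)
  have hfix : g * z * g⁻¹ = z := by rw [hgz, mul_inv_cancel_right]
  refine hG S S (g • S) z (g * u * g⁻¹) hz hz1 ?_ (fun e => hu1 ?_) (fun e => huz ?_) ?_ hz.1.1 hgu ?_ ?_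
  · rw [show g * u * g⁻¹ * (g * u * g⁻¹) = g * (u * u) * g⁻¹ by group, hu2, mul_one, mul_inv_cancel]
  · exact conj_eq_one_iff.1 e
  · rw [← hfix] at e
    exact mul_left_cancel (mul_right_cancel e)
  · exact (mem_Zc.1 hz.1).2 _ hgu
  · rw [Sylow.coe_subgroup_smul]; exact ⟨z, hz.1.1, hfix⟩
  · rw [Sylow.coe_subgroup_smul]; exact ⟨u, hu, rfl⟩

theorem mem_norm_of_comm {z u g : G} (hz : z ∈ Wz S) (hz1 : z ≠ 1) (hu : u ∈ (S : Subgroup G)) (hu2 : u * u = 1)
    (hu1 : u ≠ 1) (huz : u ≠ z) (hgz : g * z = z * g) (hgu : g * u = u * g) :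
    g ∈ normalizer ((S : Subgroup G) : Set G) :=
  mem_norm_of_conj hG hz hz1 hu hu2 hu1 huz hgz (by rwa [hgu, mul_inv_cancel_right])

/-- fusion of central involutions happens in the normaliser -/
theorem fusion (hne : Wz S ≠ ⊥) {x g : G} (hx : x ∈ Wz S) (hg : g * x * g⁻¹ ∈ (S : Subgroup G)) :
    ∃ n ∈ normalizer ((S : Subgroup G) : Set G), n * x * n⁻¹ = g * x * g⁻¹ := by
  haveI : Fact (Nat.Prime 2) := ⟨Nat.prime_two⟩
  have hy := mem_Wz_conj hG hne hx hg
  have hc : ∀ {w}, w ∈ Wz S → w ∈ centralizer ((S : Subgroup G) : Set G) := fun {w} hw =>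
    mem_centralizer_iff.2 fun s hs => (mem_Zc.1 hw.1).2 s hs
  obtain ⟨n, hn, e⟩ := S.conj_eq_normalizer_conj_of_mem_centralizer x g⁻¹ (hc hx) (by rw [inv_inv]; exact hc hy)
  refine ⟨n⁻¹, inv_mem hn, ?_⟩
  rw [inv_inv] at e ⊢
  exact e.symm

omit hG in
/-- no involution of a simple group is isolated -/
theorem exists_conj [IsSimpleGroup G] (hna : ¬ IsMulCommutative G) {z : G} (hz : z ∈ Wz S) (hz1 : z ≠ 1) :
    ∃ g : G, g * z * g⁻¹ ∈ (S : Subgroup G) ∧ g * z * g⁻¹ ≠ z := by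
  by_contra hno
  push Not at hno
  have h := Cfsg.Lib.ZStarApps.central_of_isolated2 1 z
    (orderOf_dvd_of_pow_eq_one (by rw [pow_one, pow_two]; exact hz.2)) ⟨S, hz.1.1, hno⟩
  have hO := oddCore_bot (X := G) hna
  have hzc : z ∈ center G := mem_center_iff.2 fun g => by
    have h1 := h g
    change g * z * g⁻¹ * z⁻¹ ∈ Cfsg.pPrimeCore 2 G at h1
    rw [hO, mem_bot, mul_inv_eq_one, mul_inv_eq_iff_eq_mul] at h1
    exact h1
  rcases IsSimpleGroup.eq_bot_or_eq_top_of_normal (center G) inferInstance with e | e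
  · rw [e, mem_bot] at hzc; exact hz1 hzc
  · exact hna ⟨⟨fun a b => mem_center_iff.1 (e.ge (mem_top b)) a⟩⟩

/-- a four-group away from `z` forces `S` to centralise `O(C(z))` -/
theorem core_comm {z u v : G} (hz : z ∈ Wz S) (hz1 : z ≠ 1) (hu : u ∈ (S : Subgroup G)) (hu2 : u * u = 1)
    (hv : v ∈ (S : Subgroup G)) (hv2 : v * v = 1) (huv : u * v = v * u) (hu1 : u ≠ 1) (hv1 : v ≠ 1) (hne : u ≠ v)
    (huz : u ≠ z) (hvz : v ≠ z) (huvz : u * v ≠ z) :
    ∀ o ∈ Cfsg.centralizerPPrimeCore 2 z, ∀ s ∈ (S : Subgroup G), o * s = s * o := by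
  haveI : Fact (Nat.Prime 2) := ⟨Nat.prime_two⟩
  set C := centralizer ({z} : Set G) with hC
  set O := Cfsg.centralizerPPrimeCore 2 z with hO
  have hOle : O ≤ C := map_subtype_le _
  have hnorm : ∀ {c}, c ∈ C → ∀ o ∈ O, c * o * c⁻¹ ∈ O := by
    rintro c hc _ ⟨⟨w, hw⟩, hwo, rfl⟩
    haveI : (Cfsg.pPrimeCore 2 ↥C).Normal := Cfsg.Lib.Components.pPrimeCore_normal' 2
    exact ⟨_, (inferInstance : (Cfsg.pPrimeCore 2 ↥C).Normal).conj_mem _ hwo ⟨c, hc⟩, rfl⟩
  have hSC := le_centralizer_of_Zc hz.1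
  have hodd : Odd (Nat.card O) := by
    rw [hO, Cfsg.centralizerPPrimeCore, card_map_of_injective C.subtype_injective]
    exact Cfsg.Lib.ZStarApps.odd_card_pPrimeCore
  have hint : O ⊓ (S : Subgroup G) = ⊥ := by
    refine inf_eq_bot_of_coprime ?_
    obtain ⟨j, hj⟩ := IsPGroup.iff_card.1 S.2
    rw [hj]; exact (Nat.coprime_two_right.2 hodd).pow_right j
  have key : ∀ w ∈ (S : Subgroup G), w * w = 1 → w ≠ 1 → w ≠ z → ∀ o ∈ O, o * w = w * o →
      ∀ s ∈ (S : Subgroup G), o * s = s * o := by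
    intro w hw hw2 hw1 hwz o ho how s hs
    have hoN := mem_norm_of_comm hG hz hz1 hw hw2 hw1 hwz (mem_centralizer_singleton_iff.1 (hOle ho)) how
    have h1 : o * s * o⁻¹ * s⁻¹ ∈ O ⊓ (S : Subgroup G) := by
      refine mem_inf.2 ⟨?_, mul_mem ((mem_normalizer_iff.1 hoN s).1 hs) (inv_mem hs)⟩
      rw [show o * s * o⁻¹ * s⁻¹ = o * (s * o⁻¹ * s⁻¹) by group]
      exact mul_mem ho (hnorm (hSC hs) _ (inv_mem ho))
    rw [hint, mem_bot] at h1
    exact commutatorElement_eq_one_iff_mul_comm.1 h1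
  intro o ho s hs
  obtain ⟨a, b, c, d, ha, hb, hc, hd, haO, hbO, hcO, hdO, rfl⟩ :=
    Cfsg.Lib.RankOne.four_generation hu2 hv2 huv hodd (fun x hx => hnorm (hSC hu) x hx)
      (fun x hx => hnorm (hSC hv) x hx) ho
  have huv2 : u * v * (u * v) = 1 := by
    calc u * v * (u * v) = u * (v * u) * v := by group
      _ = u * u * (v * v) := by rw [← huv]; group
      _ = 1 := by rw [hu2, hv2, one_mul]
  have huv1 : u * v ≠ 1 := fun e => hne (by
    rw [eq_inv_of_mul_eq_one_left e]; exact inv_eq_of_mul_eq_one_right hv2)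
  exact ((((show Commute a s from key u hu hu2 hu1 huz a haO ha s hs).mul_left
    (key v hv hv2 hv1 hvz b hbO hb s hs)).mul_left
    (key (u * v) (mul_mem hu hv) huv2 huv1 huvz c hcO hc s hs)).mul_left
    (key v hv hv2 hv1 hvz d hdO hd s hs)).eq

end Cfsg.Lib.SylowRankOne
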