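import Cfsg.Agent.SylowRankOne.Basic

/-!
The component of the centraliser of a central involution whose centraliser does not normalise `S`.
-/

set_option autoImplicit false
set_option linter.unusedSectionVars false
set_option linter.style.haveILetI false

namespace Cfsg.Lib.SylowRankOne

open Subgroup Cfsg.Lib.Walter.CI
open scoped Pointwise commutatorElement

universe u

variable {G : Type u} [Group G] [Finite G]

/-- A central involution of `S` with large centraliser. -/
structure Big (S : Sylow 2 G) (z : G) : Prop where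
  mem : z ∈ Wz S
  ne : z ≠ 1
  core : ∀ o ∈ Cfsg.centralizerPPrimeCore 2 z, ∀ s ∈ (S : Subgroup G), o * s = s * o
  big : ¬ centralizer ({z} : Set G) ≤ normalizer ((S : Subgroup G) : Set G)
  other : ∃ w ∈ Wz S, w ≠ 1 ∧ w ≠ z

variable {S : Sylow 2 G} {z : G}

theorem solvable_normalizer (S : Sylow 2 G) :
    Group.IsSolvable ↥(normalizer ((S : Subgroup G) : Set G)) := by
  refine solvable_of_normal_sylow (S.subtype le_normalizer) ?_
  rw [Sylow.coe_subtype]
  infer_instance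

theorem Big.sylow_le (hB : Big S z) : (S : Subgroup G) ≤ centralizer ({z} : Set G) :=
  le_centralizer_of_Zc hB.mem.1

variable (hG : Uniq G)
include hG

/-- two central involutions of `S` lie in no other Sylow subgroup -/
theorem eq_of_mem_two {T : Sylow 2 G} {w : G} (hz : z ∈ Wz S) (hz1 : z ≠ 1) (hw : w ∈ Wz S) (hw1 : w ≠ 1)
    (hwz : w ≠ z) (hzT : z ∈ (T : Subgroup G)) (hwT : w ∈ (T : Subgroup G)) : T = S :=
  (hG S S T z w hz hz1 hw.2 hw1 hwz ((mem_Zc.1 hz.1).2 w hw.1.1) hz.1.1 hw.1.1 hzT hwT).symm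

variable (hB : Big S z)
include hB

theorem Big.exists_component :
    ∃ K : Subgroup G, Cfsg.IsComponentOf K (centralizer ({z} : Set G)) := by
  haveI : Fact (Nat.Prime 2) := ⟨Nat.prime_two⟩
  obtain ⟨w, hw, hw1, hwz⟩ := hB.other
  set C := centralizer ({z} : Set G) with hC
  by_contra hno
  push Not at hno
  have hE : Cfsg.layer ↥C = ⊥ := by
    rw [Cfsg.layer, sSup_eq_bot]
    intro K hK
    exfalso
    refine hno (K.map C.subtype) ⟨map_subtype_le K, ?_⟩
    have e : (K.map C.subtype).subgroupOf C = K := comap_map_eq_self_of_injective C.subtype_injective K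
    rw [e]
    exact hK
  have hwC : w ∈ C := hB.sylow_le hw.1.1
  set y : C := ⟨w, hwC⟩ with hy
  have hyF : y ∈ Cfsg.fittingSubgroup ↥C := by
    refine (Cfsg.Lib.Components.centralizer_fitting_le_iff).2 hE ?_
    rw [← zpowers_le, le_centralizer_iff, Cfsg.Lib.Components.fitting_eq_iSup_pCore]
    refine iSup_le fun p => ?_
    haveI := Fact.mk p.2
    rw [← le_centralizer_iff, zpowers_le]
    refine mem_centralizer_iff.2 fun x hx => Subtype.ext ?_
    by_cases hp2 : p.1 = 2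
    · rw [SetLike.mem_coe, hp2] at hx
      exact (mem_Zc.1 hw.1).2 x
        ((Cfsg.Lib.Components.isPGroup_pCore 2).le_sylow_of_normal (S.subtype hB.sylow_le) hx)
    · refine hB.core x ⟨x, ?_, rfl⟩ w hw.1.1
      refine Cfsg.Lib.Components.le_pPrimeCore ?_ hx
      obtain ⟨k, hk⟩ := IsPGroup.iff_card.1 (Cfsg.Lib.Components.isPGroup_pCore (G := ↥C) p.1)
      rw [hk]
      exact ((Nat.coprime_primes p.2 Nat.prime_two).2 hp2).pow_left k
  set F := Cfsg.fittingSubgroup ↥C
  haveI : F.Normal := Cfsg.Lib.Components.normal_of_mem_sSup_normal (fun N hN => hN.1)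
  haveI := Cfsg.Lib.Components.isNilpotent_fitting (G := ↥C)
  obtain ⟨Q, hQ⟩ := (IsPGroup.of_card (n := 1) (by
    rw [Nat.card_zpowers, pow_one]
    exact orderOf_eq_prime (Subtype.ext (Subtype.ext (show w ^ 2 = 1 by rw [pow_two]; exact hw.2)))
      fun e => hw1 (congrArg (fun a : F => ((a : C) : G)) e)) :
    IsPGroup 2 ↥(zpowers (⟨y, hyF⟩ : F))).exists_le_sylow
  have hnF : (Q : Subgroup F).Normal := Q.normal_of_normalizerCondition Group.normalizerCondition_of_isNilpotent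
  haveI := Sylow.unique_of_normal Q hnF
  haveI : (Q : Subgroup F).Characteristic := inferInstance
  haveI := @ConjAct.normal_of_characteristic_of_normal _ _ F inferInstance (Q : Subgroup F) inferInstance
  have hy2 : y ∈ Cfsg.pCore 2 ↥C :=
    Cfsg.Lib.Components.le_pCore (Q.2.map F.subtype) ⟨⟨y, hyF⟩, hQ (mem_zpowers _), rfl⟩
  refine hB.big fun g hg => ?_
  haveI : (Cfsg.pCore 2 ↥C).Normal := (Cfsg.Lib.Components.pCore_normal_and_isPGroup 2).1
  have hgw := (Cfsg.Lib.Components.isPGroup_pCore 2).le_sylow_of_normal (S.subtype hB.sylow_le)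
    ((inferInstance : (Cfsg.pCore 2 ↥C).Normal).conj_mem y hy2 ⟨g, hg⟩)
  exact mem_norm_of_conj hG hB.mem hB.ne hw.1.1 hw.2 hw1 hwz (mem_centralizer_singleton_iff.1 hg) hgw

variable {K : Subgroup G} (hK : Cfsg.IsComponentOf K (centralizer ({z} : Set G)))
include hK

theorem Big.not_le_normalizer : ¬ K ≤ normalizer ((S : Subgroup G) : Set G) :=
  le_of_perfect_solvable (comp_of_perfect hK) (comp_ne_bot hK) (solvable_normalizer S)

theorem Big.not_centralizes {u : G} (hu : u ∈ (S : Subgroup G)) (hu2 : u * u = 1) (hu1 : u ≠ 1) (huz : u ≠ z) :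
    u ∉ centralizer (K : Set G) := fun h =>
  hB.not_le_normalizer hG hK fun k hk =>
    mem_norm_of_comm hG hB.mem hB.ne hu hu2 hu1 huz (mem_centralizer_singleton_iff.1 (hK.1 hk))
      (mem_centralizer_iff.1 h k hk)

theorem Big.sylow_component : ∃ P : Sylow 2 K, (P : Subgroup K) = (S : Subgroup G).subgroupOf K :=
  exists_sylow_of_component S hB.sylow_le hK.1 hK.2.1

theorem Big.central_mem_normalizer {w : G} (hw : w ∈ Wz S) : w ∈ normalizer (K : Set G) := by
  haveI : Fact (Nat.Prime 2) := ⟨Nat.prime_two⟩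
  set L := K.map (MulAut.conj w).toMonoidHom with hL
  have hLc : Cfsg.IsComponentOf L (centralizer ({z} : Set G)) := comp_conj hK (hB.sylow_le hw.1.1)
  by_cases he : K = L
  · refine mem_normalizer_fintype fun x hx => ?_
    rw [SetLike.mem_coe, he]
    exact mem_map_of_mem _ hx
  exfalso
  have hcom := comp_commute hK hLc he
  obtain ⟨P, hP⟩ := hB.sylow_component hG hK
  refine comp_not_solvable hK (solvable_of_normal_sylow P ⟨fun x hx y => ?_⟩)
  have hxS : (x : G) ∈ (S : Subgroup G) := by rwa [hP, mem_subgroupOf] at hx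
  have hxL : (x : G) ∈ L := ⟨x, x.2, show w * x * w⁻¹ = x by
    rw [← (mem_Zc.1 hw.1).2 x hxS, mul_inv_cancel_right]⟩
  have : y * x * y⁻¹ = x := Subtype.ext (show (y : G) * x * (y : G)⁻¹ = x by
    rw [hcom y y.2 x hxL, mul_inv_cancel_right])
  rwa [this]

/-- `K` meets the central involutions outside `⟨z⟩` -/
theorem Big.exists_inner : ∃ u ∈ Wz S, u ∈ K ∧ u ≠ 1 ∧ u ≠ z := by
  haveI : Fact (Nat.Prime 2) := ⟨Nat.prime_two⟩
  obtain ⟨w, hw, hw1, hwz⟩ := hB.other
  by_contra hno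
  push Not at hno
  set V : Subgroup G := zpowers z ⊔ zpowers w with hV
  have hzV : z ∈ V := mem_sup_left (mem_zpowers z)
  have hwV : w ∈ V := mem_sup_right (mem_zpowers w)
  have hVW : V ≤ Wz S := sup_le (zpowers_le.2 hB.mem) (zpowers_le.2 hw)
  have hVK : V ≤ normalizer (K : Set G) := fun v hv => hB.central_mem_normalizer hG hK (hVW hv)
  have hVC : V ≤ centralizer ({z} : Set G) := fun v hv => hB.sylow_le (hVW hv).1.1
  set Y : Subgroup G := V ⊔ K with hY
  have hVY : V ≤ Y := le_sup_left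
  have hKY : K ≤ Y := le_sup_right
  have hYC : Y ≤ centralizer ({z} : Set G) := sup_le hVC hK.1
  -- the conjugates of `w` differ from it by elements of `K`
  have hmem : ∀ g ∈ Y, g * w * g⁻¹ * w⁻¹ ∈ K := by
    intro g hg
    rw [hY, ← SetLike.mem_coe, coe_mul_of_left_le_normalizer_right _ _ hVK] at hg
    obtain ⟨v, hv, k, hk, rfl⟩ := hg
    have hvw : v * w = w * v := ((mem_Zc.1 hw.1).2 v (hVW hv).1.1)
    have h1 : k * (w * k⁻¹ * w⁻¹) ∈ K := mul_mem hk ((mem_normalizer_iff.1 (hVK hwV) _).1 (inv_mem hk))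
    have h2 := (mem_normalizer_iff.1 (hVK hv) _).1 h1
    convert h2 using 1
    calc v * k * w * (v * k)⁻¹ * w⁻¹ = v * (k * (w * k⁻¹ * w⁻¹)) * (w * v⁻¹ * w⁻¹) := by group
      _ = _ := by rw [((show Commute v w from hvw).inv_left).eq.symm, mul_inv_cancel_right]
  -- a Sylow subgroup of `Y` containing `V` lies in `S`
  obtain ⟨T, hT⟩ := ((S.2.to_le ((hVW.trans (Wz_le S)))).comap_subtype (K := Y)).exists_le_sylow
  obtain ⟨T', hT'⟩ := (T.2.map Y.subtype).exists_le_sylow
  have hzT : (⟨z, hVY hzV⟩ : Y) ∈ (T : Subgroup Y) := hT hzV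
  have hwT : (⟨w, hVY hwV⟩ : Y) ∈ (T : Subgroup Y) := hT hwV
  have hTS : ∀ x : Y, x ∈ (T : Subgroup Y) → (x : G) ∈ (S : Subgroup G) := by
    intro x hx
    rw [← eq_of_mem_two hG hB.mem hB.ne hw hw1 hwz (hT' ⟨_, hzT, rfl⟩) (hT' ⟨_, hwT, rfl⟩)]
    exact hT' ⟨x, hx, rfl⟩
  set Z : Subgroup Y := zpowers ⟨z, hVY hzV⟩ with hZ
  haveI : Z.Normal := ⟨fun x hx g => by
    obtain ⟨i, rfl⟩ := mem_zpowers_iff.1 hx
    have hc : Commute g (⟨z, hVY hzV⟩ : Y) :=
      Subtype.ext (mem_centralizer_singleton_iff.1 (hYC g.2))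
    rw [(hc.zpow_right i).eq, mul_inv_cancel_right]
    exact zpow_mem (mem_zpowers _) i⟩
  set π := QuotientGroup.mk' Z with hπ
  set a : Y := ⟨w, hVY hwV⟩ with ha
  have hiso : Cfsg.Lib.ZStarApps.Isolated2 (π a) := by
    refine ⟨T.mapSurjective (QuotientGroup.mk'_surjective Z), ⟨a, hwT, rfl⟩, fun gb hgb => ?_⟩
    obtain ⟨g, rfl⟩ := QuotientGroup.mk'_surjective Z gb
    obtain ⟨t, ht, hte⟩ := hgb
    rw [← map_inv, ← map_mul, ← map_mul] at hte ⊢
    have hc : t⁻¹ * (g * a * g⁻¹) ∈ Z := QuotientGroup.eq.1 hte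
    have hgT : g * a * g⁻¹ ∈ (T : Subgroup Y) := by
      have := mul_mem ht ((zpowers_le.2 hzT) hc)
      rwa [mul_inv_cancel_left] at this
    have hgS : (g : G) * w * (g : G)⁻¹ ∈ (S : Subgroup G) := hTS _ hgT
    have hn := mem_norm_of_conj hG hB.mem hB.ne hw.1.1 hw.2 hw1 hwz
      (mem_centralizer_singleton_iff.1 (hYC g.2)) hgS
    have hd : (g : G) * w * (g : G)⁻¹ * w⁻¹ ∈ Wz S := mul_mem (Wz_conj S hn hw) (inv_mem hw)
    refine QuotientGroup.eq.2 ?_
    by_cases h1 : (g : G) * w * (g : G)⁻¹ * w⁻¹ = 1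
    · have : g * a * g⁻¹ = a := Subtype.ext (mul_inv_eq_one.1 h1)
      rw [this, inv_mul_cancel]
      exact one_mem _
    have h2 := hno _ hd (hmem g g.2) h1
    have : (g * a * g⁻¹)⁻¹ * a = (⟨z, hVY hzV⟩ : Y)⁻¹ := Subtype.ext (by
      show ((g : G) * w * (g : G)⁻¹)⁻¹ * w = z⁻¹
      rw [← h2, mul_inv_rev ((g : G) * w * (g : G)⁻¹) w⁻¹, inv_inv]
      exact ((show Commute ((g : G) * w * (g : G)⁻¹) w from
        (mem_Zc.1 hw.1).2 _ ((mem_normalizer_iff.1 hn w).1 hw.1.1)).inv_left).eq)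
    rw [this]
    exact inv_mem (mem_zpowers _)
  have hw2 : orderOf (π a) ∣ 2 ^ 1 := (orderOf_map_dvd π a).trans (orderOf_dvd_of_pow_eq_one
    (Subtype.ext (show w ^ (2 ^ 1) = 1 by rw [pow_one, pow_two]; exact hw.2)))
  have hcen := Cfsg.Lib.ZStarApps.central_of_isolated2 1 (π a) hw2 hiso
  set M : Subgroup Y := (Cfsg.pPrimeCore 2 (Y ⧸ Z)).comap π with hM
  haveI : (Cfsg.pPrimeCore 2 (Y ⧸ Z)).Normal := Cfsg.Lib.Components.pPrimeCore_normal' 2
  haveI hMn : M.Normal := inferInstanceAs (((Cfsg.pPrimeCore 2 (Y ⧸ Z)).comap π).Normal)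
  have hMs : Group.IsSolvable M := by
    haveI := Cfsg.Agent.PF.isSolvable_of_odd (Cfsg.pPrimeCore 2 (Y ⧸ Z)) Cfsg.Lib.ZStarApps.odd_card_pPrimeCore
    haveI := (T.2.to_le (zpowers_le.2 hzT) : IsPGroup 2 Z).isNilpotent
    exact Group.isSolvable_of_ker_le_range (inclusion (show Z ≤ M from fun x hx => by
        rw [hM, mem_comap, show π x = 1 from (QuotientGroup.eq_one_iff x).2 hx]; exact one_mem _))
      (π.subgroupComap (Cfsg.pPrimeCore 2 (Y ⧸ Z))) (fun x hx => by
        rw [MonoidHom.mem_ker] at hx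
        exact ⟨⟨x.1, (QuotientGroup.eq_one_iff x.1).1 (congrArg Subtype.val hx)⟩, rfl⟩)
  refine hB.not_centralizes hG hK hw.1.1 hw.2 hw1 hwz (commute_of_mod_center (comp_of_perfect hK) fun k hk => ?_)
  have hkK : w * k * w⁻¹ * k⁻¹ ∈ K :=
    mul_mem ((mem_normalizer_iff.1 (hVK hwV) k).1 hk) (inv_mem hk)
  refine mem_inf.2 ⟨hkK, ?_⟩
  have hin : (⟨w * k * w⁻¹ * k⁻¹, hKY hkK⟩ : Y) ∈ M := by
    have h1 := inv_mem (hcen (π ⟨k, hKY hk⟩))
    rw [hM, mem_comap]
    convert h1 using 1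
    rw [← map_inv, ← map_inv, ← map_mul, ← map_mul, ← map_mul, ← map_inv]
    exact congrArg π (Subtype.ext (show w * k * w⁻¹ * k⁻¹ = (k * w * k⁻¹ * w⁻¹)⁻¹ by group))
  set N : Subgroup K := M.comap (inclusion hKY) with hN
  haveI : N.Normal := inferInstanceAs ((M.comap (inclusion hKY)).Normal)
  have hNtop : N ≠ ⊤ := fun e => comp_not_solvable hK
    (Group.isSolvable_of_isSolvable_injective (f := (inclusion hKY).subgroupComap M |>.comp
      ((MulEquiv.subgroupCongr e).trans topEquiv).symm.toMonoidHom) (by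
        intro x y hxy
        have := congrArg Subtype.val hxy
        exact inclusion_injective hKY this))
  have hNc := Cfsg.Lib.CpQuot.le_center (comp_qs hK) hNtop (show (⟨_, hkK⟩ : K) ∈ N from hin)
  exact mem_centralizer_iff.2 fun x hx => congrArg Subtype.val (mem_center_iff.1 hNc ⟨x, hx⟩)

/-- there is no other component -/
theorem Big.component_unique {L : Subgroup G} (hL : Cfsg.IsComponentOf L (centralizer ({z} : Set G))) : L = K := by
  by_contra hne
  obtain ⟨u, hu, huK, hu1, huz⟩ := hB.exists_inner hG hK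
  exact hB.not_centralizes hG hL hu.1.1 hu.2 hu1 huz
    (mem_centralizer_iff.2 fun l hl => comp_commute hL hK hne l hl u huK)

theorem Big.centralizer_le_normalizer_component :
    centralizer ({z} : Set G) ≤ normalizer (K : Set G) := by
  intro g hg
  refine mem_normalizer_fintype fun x hx => ?_
  rw [SetLike.mem_coe, ← hB.component_unique hG hK (comp_conj hK hg)]
  exact mem_map_of_mem _ hx

end Cfsg.Lib.SylowRankOne
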