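import Cfsg.Agent.SylowRankOne.RigidCore
import Cfsg.Agent.BenderSE.Final
import Cfsg.Agent.BenderSE.Dependents.Rows
import Cfsg.Agent.BenderSuzuki.SimpleEmbedded
import Cfsg.Agent.BenderSuzuki.Assembly
import Cfsg.Agent.BenderSuzuki.Unitary

/-!
Rigidity of automorphisms of 2-power order of a simple group with a strongly embedded subgroup.
-/

set_option autoImplicit false
set_option linter.unusedSectionVars false
set_option linter.style.haveILetI false

namespace Cfsg.Lib.SylowRankOne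

open Subgroup MulAction

universe u

variable {X : Type u} [Group X] [Finite X] [IsSimpleGroup X]

/-- A 2-power automorphism fixing the involutions of a strongly embedded `H`, a second point and the two-point
stabiliser is trivial. -/
theorem rigid (hna : ¬ IsMulCommutative X) {H : Subgroup X} (hH : Cfsg.IsStronglyEmbedded H) {α : MulAut X}
    (htwo : ∃ j, α ^ 2 ^ j = 1) (hαH : ∀ x ∈ H, α x ∈ H) {g₀ : X} (hg₀ : g₀ ∉ H) (hfix : g₀⁻¹ * α g₀ ∈ H)
    (hI : ∀ i ∈ H, orderOf i = 2 → α i = i) (hD : ∀ d ∈ H, g₀⁻¹ * d * g₀ ∈ H → α d = d) : α = 1 := by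
  haveI : Fact (Nat.Prime 2) := ⟨Nat.prime_two⟩
  have hS : Cfsg.Lib.BenderSE.Setting H :=
    ⟨hH, Cfsg.Lib.BenderSE.normalCore_eq_bot_of_simple hH, Cfsg.Lib.BenderSE.comm_of_nonab hH hna⟩
  obtain ⟨L, Q, F⟩ := Cfsg.Lib.BenderSE.exists_frame Cfsg.Lib.BenderSE.regProp hS
  have hQn : (Q.subgroupOf H).Normal := (normal_subgroupOf_iff_le_normalizer F.qle).2 F.qn
  obtain ⟨S, hSQ⟩ := F.sylow
  -- the automorphism respects `Q`
  have hαQ : ∀ x ∈ Q, α x ∈ Q := by
    intro x hx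
    have hp : IsPGroup 2 ↥(zpowers (α x)) := by
      obtain ⟨k, hk⟩ := F.q2.exists_orderOf_eq_pow ⟨x, hx⟩
      rw [Subgroup.orderOf_mk] at hk
      exact IsPGroup.of_card (n := k) (by rw [Nat.card_zpowers, MulEquiv.orderOf_eq, hk])
    have h := hp.to_sup_of_normal_right' F.q2 (zpowers_le.2 (F.qn (hαH x (F.qle hx))))
    exact hSQ ▸ (S.3 h (hSQ ▸ le_sup_right)).le (mem_sup_left (mem_zpowers _))
  -- an involution at the second point
  obtain ⟨t₀, ht₀, ht₀2⟩ := Cfsg.Lib.BenderSuzuki.exists_invol_out H hH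
  obtain ⟨u, hu, hug⟩ := F.trans t₀ g₀ ht₀ hg₀
  set t := u * t₀ * u⁻¹ with htdef
  have htg : g₀⁻¹ * t ∈ H := by
    rw [htdef, show g₀⁻¹ * (u * t₀ * u⁻¹) = g₀⁻¹ * (u * t₀) * u⁻¹ by group]
    exact mul_mem hug (inv_mem (F.qle hu))
  have htH : t ∉ H := fun h => hg₀ (by
    have := mul_mem h (inv_mem htg)
    rwa [mul_inv_rev, inv_inv, mul_inv_cancel_left] at this)
  have ht2 : orderOf t = 2 := by
    rw [htdef, show u * t₀ * u⁻¹ = MulAut.conj u t₀ from rfl, MulEquiv.orderOf_eq, ht₀2]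
  have hset := Cfsg.Lib.BenderSuzuki.embedded_setup H hH Q F.qle hQn F.trans F.reg htH ht2
  haveI : FaithfulSMul X (X ⧸ H) := by
    constructor
    intro x y h
    have hk : y⁻¹ * x ∈ H.normalCore := by
      rw [Subgroup.normalCore_eq_ker, MonoidHom.mem_ker]
      refine Equiv.ext fun p => ?_
      show (y⁻¹ * x) • p = p
      rw [mul_smul, h p, inv_smul_smul]
    rw [Cfsg.Lib.BenderSE.normalCore_eq_bot_of_simple hH, mem_bot, inv_mul_eq_one] at hk
    exact hk.symm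
  obtain ⟨p, q, hp, hq, hne, hc⟩ := hS.rank2
  have hne1 : ∀ {x : X}, orderOf x = 2 → x ≠ 1 := fun {x} hx e => by
    rw [e, orderOf_one] at hx; omega
  have hs : Cfsg.Lib.BenderSuzuki.Simple X (X ⧸ H) ((1 : X) : X ⧸ H) t Q :=
    ⟨hset, inferInstance, ⟨p, q, hne1 hp, hne1 hq, hne, Cfsg.Lib.InvolCalc.sq_of_order_two hp,
      Cfsg.Lib.InvolCalc.sq_of_order_two hq, hc⟩, inferInstance⟩
  have hIH := Cfsg.Lib.BenderSuzuki.ih_of_unitary Cfsg.Lib.BenderSuzuki.unitaryStep.{u, u}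
  have hgood := hIH (Nat.card X + 1) X (X ⧸ H) _ t Q (Nat.lt_succ_self _) hs
  have hα : Fixes (X ⧸ H) ((1 : X) : X ⧸ H) t Q α := by
    refine ⟨hαQ, fun z hz => ?_, fun d hd => ?_, htwo⟩
    · obtain ⟨hz1, hz2, hz3⟩ := hz
      rw [SetLike.mem_coe, MulAction.stabilizer_quotient] at hz1
      exact hI z hz1 (orderOf_eq_prime (by rw [pow_two, hz3]) hz2)
    · obtain ⟨hd1, hd2⟩ := Subgroup.mem_inf.1 hd
      rw [MulAction.stabilizer_quotient] at hd1
      have hd3 : t⁻¹ * (d * t) ∈ H := by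
        rw [MulAction.mem_stabilizer_iff, Cfsg.Lib.BenderSuzuki.smul_base, MulAction.Quotient.smul_coe,
          smul_eq_mul, QuotientGroup.eq] at hd2
        have h := inv_mem hd2
        simpa [mul_assoc] using h
      refine hD d hd1 ?_
      rw [show g₀⁻¹ * d * g₀ = g₀⁻¹ * t * (t⁻¹ * (d * t)) * (g₀⁻¹ * t)⁻¹ by group]
      exact mul_mem (mul_mem htg hd3) (inv_mem htg)
  have hQ := hα.eq_self hs hgood (hIH _)
  -- every coset is fixed
  have hδ : ∀ v : X, v⁻¹ * α v ∈ H := by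
    intro v
    by_cases hv : v ∈ H
    · exact mul_mem (inv_mem hv) (hαH v hv)
    obtain ⟨w, hw, hw'⟩ := F.trans g₀ v hg₀ hv
    set m := v⁻¹ * (w * g₀) with hm
    have e : v = w * g₀ * m⁻¹ := by rw [hm]; group
    rw [e, map_mul, map_mul, map_inv, hQ w hw,
      show (w * g₀ * m⁻¹)⁻¹ * (w * α g₀ * (α m)⁻¹) = m * (g₀⁻¹ * α g₀) * (α m)⁻¹ by group]
    exact mul_mem (mul_mem hw' hfix) (inv_mem (hαH m hw'))
  refine MulEquiv.ext fun v => ?_
  show α v = v
  have hcore : v⁻¹ * α v ∈ H.normalCore := by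
    intro y
    have h1 := mul_mem (hδ (v * y⁻¹)) (inv_mem (hδ y⁻¹))
    rw [map_mul, map_inv] at h1
    convert h1 using 1
    group
  rw [Cfsg.Lib.BenderSE.normalCore_eq_bot_of_simple hH, mem_bot, inv_mul_eq_one] at hcore
  exact hcore.symm

end Cfsg.Lib.SylowRankOne
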