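import Cfsg.Agent.SylowRankOne.Orbit
import Cfsg.Agent.SylowRankOne.Rigid
import Cfsg.Agent.Lyons.Three.Main
import Cfsg.Agent.Lyons.Local.UFour
import Cfsg.Agent.Walter.CI.Final

/-!
No central involution of a nonabelian Sylow 2-subgroup has a large centraliser.
-/

set_option autoImplicit false
set_option linter.unusedSectionVars false
set_option linter.style.haveILetI false

namespace Cfsg.Lib.SylowRankOne

open Subgroup Cfsg.Lib.Walter.CI

universe u

variable {G : Type u} [Group G] [Finite G]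

/-- an element moving a central element of a Sylow subgroup can be taken of odd order -/
theorem exists_odd_moving {S : Sylow 2 G} {i g : G} (hi : ∀ s ∈ (S : Subgroup G), s * i = i * s)
    (hg : g ∈ normalizer ((S : Subgroup G) : Set G)) (hne : g * i * g⁻¹ ≠ i) :
    ∃ g' ∈ normalizer ((S : Subgroup G) : Set G), Odd (orderOf g') ∧ g' * i * g'⁻¹ ≠ i := by
  haveI : Fact (Nat.Prime 2) := ⟨Nat.prime_two⟩
  obtain ⟨k, m, hm, hord⟩ := Nat.exists_eq_two_pow_mul_odd (orderOf_pos g).ne'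
  have hm0 : m ≠ 0 := fun e => by simp [e] at hm
  refine ⟨g ^ 2 ^ k, pow_mem hg _, ?_, fun h => hne ?_⟩
  · rwa [orderOf_pow_of_dvd (pow_ne_zero _ two_ne_zero) ⟨m, hord⟩, hord, Nat.mul_div_cancel_left _ (by positivity)]
  have h1 : g ^ m ∈ (S : Subgroup G) := by
    have hp : IsPGroup 2 ↥(zpowers (g ^ m)) := IsPGroup.of_card (n := k) (by
      rw [Nat.card_zpowers, orderOf_pow_of_dvd hm0 ⟨2 ^ k, by rw [hord, mul_comm]⟩, hord,
        Nat.mul_div_cancel _ (Nat.pos_of_ne_zero hm0)])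
    exact (S.3 (hp.to_sup_of_normal_right' S.isPGroup' (zpowers_le.2 (pow_mem hg _))) le_sup_right).le
      (mem_sup_left (mem_zpowers _))
  have a1 : g ^ m ∈ centralizer ({i} : Set G) := mem_centralizer_singleton_iff.2 (hi _ h1)
  have a2 : g ^ 2 ^ k ∈ centralizer ({i} : Set G) :=
    mem_centralizer_singleton_iff.2 (mul_inv_eq_iff_eq_mul.1 h)
  have hcop : Nat.Coprime m (2 ^ k) := (Nat.coprime_two_right.2 hm).pow_right k
  have h3 : g ∈ centralizer ({i} : Set G) := by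
    have := Nat.gcd_eq_gcd_ab m (2 ^ k)
    rw [hcop.gcd_eq_one] at this
    have hg1 : g = (g ^ m) ^ Nat.gcdA m (2 ^ k) * (g ^ 2 ^ k) ^ Nat.gcdB m (2 ^ k) := by
      rw [← zpow_natCast g m, ← zpow_natCast g (2 ^ k), ← zpow_mul, ← zpow_mul, ← zpow_add, ← this, Nat.cast_one,
        zpow_one]
    rw [hg1]
    exact mul_mem (zpow_mem a1 _) (zpow_mem a2 _)
  rw [mem_centralizer_singleton_iff.1 h3, mul_inv_cancel_right]

namespace Tower

variable {S : Sylow 2 G} {z : G} {K : Subgroup G} {P : Sylow 2 K} {H : Subgroup (↥K ⧸ center ↥K)}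
  (D : Tower S z K P H) (hG : Uniq G)
include D hG

/-- the two-point stabiliser centralises `K` -/
theorem stab_centralizes {g₀ : K} (hg₀ : pr K g₀ ∉ H) {d : G} (hd : d ∈ (S : Subgroup G))
    (hdg : (g₀ : G)⁻¹ * d * g₀ ∈ (S : Subgroup G)) : d ∈ centralizer (K : Set G) := by
  haveI : Fact (Nat.Prime 2) := ⟨Nat.prime_two⟩
  haveI := D.simple
  have hdK : d ∈ normalizer (K : Set G) := D.big.centralizer_le_normalizer_component hG D.comp (D.big.sylow_le hd)
  let σ : ↥K ≃* ↥K :=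
    { toFun := fun v => ⟨d * v * d⁻¹, (mem_normalizer_iff.1 hdK v).1 v.2⟩
      invFun := fun v => ⟨d⁻¹ * v * d, (mem_normalizer_iff''.1 hdK v).1 v.2⟩
      left_inv := fun v => Subtype.ext (show d⁻¹ * (d * v * d⁻¹) * d = v by group)
      right_inv := fun v => Subtype.ext (show d * (d⁻¹ * v * d) * d⁻¹ = v by group)
      map_mul' := fun v w => Subtype.ext (show d * (v * w : G) * d⁻¹ = (d * v * d⁻¹) * (d * w * d⁻¹) by group) }
  have hσc : (center ↥K).map σ.toMonoidHom = center ↥K := Cfsg.Lib.BenderSuzuki.U3.center_map σ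
  let α : MulAut (↥K ⧸ center ↥K) := QuotientGroup.congr (center ↥K) (center ↥K) σ hσc
  have hα : ∀ v : ↥K, α (pr K v) = pr K (σ v) := fun v => rfl
  have hαpow : ∀ (n : ℕ) (v : ↥K), (α ^ n) (pr K v) = pr K ((σ ^ n : MulAut ↥K) v) := by
    intro n
    induction n with
    | zero => intro v; rfl
    | succ n ih => intro v; rw [pow_succ, pow_succ, MulAut.mul_apply, MulAut.mul_apply, hα, ih]
  have hσpow : ∀ (n : ℕ) (v : ↥K), (((σ ^ n : MulAut ↥K) v : ↥K) : G) = d ^ n * v * (d ^ n)⁻¹ := by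
    intro n
    induction n with
    | zero => intro v; simp
    | succ n ih =>
      intro v
      rw [pow_succ σ, MulAut.mul_apply, ih]
      show d ^ n * (d * v * d⁻¹) * (d ^ n)⁻¹ = _
      rw [pow_succ]; group
  obtain ⟨j, hj⟩ := S.2.exists_orderOf_eq_pow ⟨d, hd⟩
  rw [Subgroup.orderOf_mk] at hj
  have htwo : ∃ j, α ^ 2 ^ j = 1 := by
    refine ⟨j, MulEquiv.ext fun x => ?_⟩
    obtain ⟨v, rfl⟩ := QuotientGroup.mk'_surjective (center ↥K) x
    rw [hαpow]
    refine congrArg (pr K) (Subtype.ext ?_)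
    rw [hσpow, ← hj, pow_orderOf_eq_one]; simp
  have hdN : d ∈ normalizer ((S : Subgroup G) : Set G) := le_normalizer hd
  have hα1 : α = 1 := by
    refine rigid D.nonab D.pair.se htwo (fun x hx => ?_) hg₀ ?_ (fun i hi hi2 => ?_) (fun e he heg => ?_)
    · obtain ⟨v, rfl⟩ := QuotientGroup.mk'_surjective (center ↥K) x
      rw [hα]
      exact (D.mem _).2 (mul_mem (mul_mem hdN ((D.mem v).1 hx)) (inv_mem hdN))
    · rw [hα, ← map_inv, ← map_mul]
      refine D.map_le ?_
      show (g₀ : G)⁻¹ * (d * g₀ * d⁻¹) ∈ (S : Subgroup G)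
      rw [show (g₀ : G)⁻¹ * (d * g₀ * d⁻¹) = (g₀ : G)⁻¹ * d * g₀ * d⁻¹ by group]
      exact mul_mem hdg (inv_mem hd)
    · obtain ⟨u, hu, huK, rfl⟩ := D.exists_lift hG hi2 hi
      rw [hα]
      refine congrArg (pr K) (Subtype.ext ?_)
      show d * u * d⁻¹ = u
      rw [(mem_Zc.1 hu.1).2 d hd, mul_inv_cancel_right]
    · obtain ⟨t, rfl⟩ := QuotientGroup.mk'_surjective (center ↥K) e
      rw [← map_inv, ← map_mul, ← map_mul] at heg
      have ht := (D.mem t).1 he
      have ht' := (D.mem _).1 heg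
      have hc : (σ t * t⁻¹ : K) ∈ center ↥K := by
        refine (QuotientGroup.eq_one_iff _).1 (D.stab_center hg₀ ?_ ?_)
        · show d * t * d⁻¹ * (t : G)⁻¹ ∈ (S : Subgroup G)
          rw [show d * t * d⁻¹ * (t : G)⁻¹ = d * ((t : G) * d⁻¹ * (t : G)⁻¹) by group]
          exact mul_mem hd ((mem_normalizer_iff.1 ht _).1 (inv_mem hd))
        · show (g₀ : G)⁻¹ * (d * t * d⁻¹ * (t : G)⁻¹) * g₀ ∈ (S : Subgroup G)
          set t' : G := (g₀ : G)⁻¹ * t * g₀
          rw [show (g₀ : G)⁻¹ * (d * t * d⁻¹ * (t : G)⁻¹) * g₀ =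
            (g₀ : G)⁻¹ * d * g₀ * (t' * ((g₀ : G)⁻¹ * d * g₀)⁻¹ * t'⁻¹) by simp only [t']; group]
          exact mul_mem hdg ((mem_normalizer_iff.1 (show t' ∈ _ from ht') _).1 (inv_mem hdg))
      rw [hα]
      have h1 : pr K (σ t * t⁻¹) = 1 := (QuotientGroup.eq_one_iff _).2 hc
      rwa [map_mul, map_inv, mul_inv_eq_one] at h1
  refine commute_of_mod_center (comp_of_perfect D.comp) fun k hk => ?_
  have h1 : pr K (σ ⟨k, hk⟩ * (⟨k, hk⟩ : K)⁻¹) = 1 := by
    rw [map_mul, ← hα, hα1, MulAut.one_apply, map_inv, mul_inv_cancel]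
  exact mem_inf.2 ⟨(σ ⟨k, hk⟩ * (⟨k, hk⟩ : K)⁻¹).2, D.center_le ((QuotientGroup.eq_one_iff _).1 h1)⟩

/-- the Sylow subgroup is a product -/
theorem product {s : G} (hs : s ∈ (S : Subgroup G)) :
    ∃ (p : K) (c : G), (p : G) ∈ (S : Subgroup G) ∧ c ∈ (S : Subgroup G) ∧ c ∈ centralizer (K : Set G) ∧
      s = p * c := by
  obtain ⟨g₀, hg₀⟩ := D.exists_moving
  obtain ⟨u, hu, huK, hd⟩ := D.exists_stab hg₀ hG hs
  have hc := D.stab_centralizes hG hg₀ (mul_mem hs hu) hd
  refine ⟨⟨u, huK⟩⁻¹, s * u, inv_mem hu, mul_mem hs hu, hc, ?_⟩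
  show s = u⁻¹ * (s * u)
  calc s = s * u * u⁻¹ := by group
    _ = _ := (mem_centralizer_iff.1 hc u⁻¹ (inv_mem huK)).symm

/-- all involutions of `S` are central -/
theorem involution_central {s : G} (hs : s ∈ (S : Subgroup G)) (hs2 : s * s = 1) : s ∈ Wz S := by
  haveI : Fact (Nat.Prime 2) := ⟨Nat.prime_two⟩
  obtain ⟨p, c, hpS, hcS, hcK, rfl⟩ := D.product hG hs
  have hpc : Commute (p : G) c := mem_centralizer_iff.1 hcK p p.2
  have hp2 : pr K p * pr K p = 1 := by
    rw [← map_mul]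
    refine (QuotientGroup.eq_one_iff _).2 (mem_center_iff.2 fun k => Subtype.ext ?_)
    show (k : G) * ((p : G) * p) = (p : G) * p * k
    have e : (p : G) * p = (c * c)⁻¹ := eq_inv_of_mul_eq_one_left (by
      calc (p : G) * p * (c * c) = p * (p * c) * c := by group
        _ = p * (c * p) * c := by rw [hpc.eq]
        _ = 1 := by rw [← hs2]; group)
    rw [e]
    exact ((show Commute (k : G) (c * c) from
      (show Commute (k : G) c from mem_centralizer_iff.1 hcK k k.2).mul_right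
        (mem_centralizer_iff.1 hcK k k.2)).inv_right).eq
  obtain ⟨u, hu, huK, e⟩ : ∃ (u : G) (_ : u ∈ Wz S) (hK' : u ∈ K), pr K ⟨u, hK'⟩ = pr K p := by
    by_cases h1 : pr K p = 1
    · exact ⟨1, one_mem _, one_mem _, by rw [h1]; exact map_one (pr K)⟩
    · exact D.exists_lift hG (orderOf_eq_prime (by rw [pow_two, hp2]) h1) (D.map_le hpS)
  have hc' : u⁻¹ * p ∈ centralizer (K : Set G) := D.center_le (x := (⟨u, huK⟩ : K)⁻¹ * p) (QuotientGroup.eq.1 e)
  set c' : G := u⁻¹ * p * c with hc'def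
  have hc'K : c' ∈ centralizer (K : Set G) := mul_mem hc' hcK
  have hc'S : c' ∈ (S : Subgroup G) := mul_mem (mul_mem (inv_mem hu.1.1) hpS) hcS
  have huc : (p : G) * c = u * c' := by rw [hc'def]; group
  have h2 : c' * c' = 1 := by
    have hcu : Commute c' u := (mem_Zc.1 hu.1).2 c' hc'S
    calc c' * c' = u * u * (c' * c') := by rw [hu.2, one_mul]
      _ = u * (c' * u) * c' := by rw [hcu.eq]; group
      _ = u * c' * (u * c') := by group
      _ = 1 := by rw [← huc, hs2]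
  rw [huc]
  by_cases h1 : c' = 1
  · rw [h1, mul_one]; exact hu
  by_cases hz : c' = z
  · rw [hz]; exact mul_mem hu D.big.mem
  exact absurd hc'K (D.big.not_centralizes hG D.comp hc'S h2 h1 hz)

/-- the Sylow subgroup of the quotient is of the small type -/
theorem ufour {V : Subgroup G} (hV : Spread S z V) (h4 : Nat.card ↥V = 4)
    (hnab : ¬ IsMulCommutative ↥(P.mapSurjective (QuotientGroup.mk'_surjective (center ↥K)) :
      Subgroup (↥K ⧸ center ↥K))) :
    Cfsg.Lib.Lyons.UFour (P.mapSurjective (QuotientGroup.mk'_surjective (center ↥K)) :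
      Subgroup (↥K ⧸ center ↥K)) := by
  haveI : Fact (Nat.Prime 2) := ⟨Nat.prime_two⟩
  haveI := D.simple
  set Pb := P.mapSurjective (QuotientGroup.mk'_surjective (center ↥K)) with hPb
  have hH : ∀ x ∈ (Pb : Subgroup (↥K ⧸ center ↥K)), x ∈ H := fun x hx => D.pair.norm.le (le_normalizer hx)
  have hcen : ∀ x ∈ (Pb : Subgroup (↥K ⧸ center ↥K)), x * x = 1 →
      ∀ y ∈ (Pb : Subgroup (↥K ⧸ center ↥K)), y * x = x * y := by
    intro x hx hx2 y hy
    by_cases hx1 : x = 1
    · rw [hx1, one_mul, mul_one]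
    exact ((D.pair.qinvol x (orderOf_eq_prime (by rw [pow_two, hx2]) hx1) (hH x hx)).2 y hy).symm
  obtain ⟨u, hu, huK, hu1, huz⟩ := D.big.exists_inner hG D.comp
  have ho := D.orderOf_map hG hu huK hu1 huz
  have hi := (D.pair.qinvol _ ho (D.map_le (x := ⟨u, huK⟩) hu.1.1)).1
  obtain ⟨h, hh, hne⟩ := D.pair.moves _ hi ho
  have hi2 : pr K ⟨u, huK⟩ * pr K ⟨u, huK⟩ = 1 := by rw [← pow_two, ← ho, pow_orderOf_eq_one]
  obtain ⟨g, hg, hodd, hgne⟩ := exists_odd_moving (hcen _ hi hi2) (D.pair.norm.symm ▸ hh) hne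
  refine Cfsg.Lib.Lyons.uFour_of_three Pb.2 ?_ hcen (D.card_sq_one hG hV h4) hg hodd hi hi2 hgne
  by_contra hno
  push Not at hno
  exact hnab ⟨⟨fun a b => Subtype.ext (hno a a.2 b b.2)⟩⟩

/-- the centraliser of `K` in `S` is `⟨z⟩` -/
theorem centralizer_eq (elem : ElemProp.{u}) {V : Subgroup G} (hV : Spread S z V) (h4 : Nat.card ↥V = 4)
    (hall : ∀ x ∈ Wz S, x ≠ 1 → ∃ n ∈ normalizer ((S : Subgroup G) : Set G), n * z * n⁻¹ = x)
    {c : G} (hc : c ∈ (S : Subgroup G)) (hcK : c ∈ centralizer (K : Set G)) : c = 1 ∨ c = z := by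
  haveI : Fact (Nat.Prime 2) := ⟨Nat.prime_two⟩
  haveI := D.simple
  set C : Subgroup G := (S : Subgroup G) ⊓ centralizer (K : Set G) with hC
  have hinv : ∀ x ∈ C, x * x = 1 → x = 1 ∨ x = z := fun x hx hx2 => by
    by_contra h
    push Not at h
    exact D.big.not_centralizes hG D.comp hx.1 hx2 h.1 h.2 hx.2
  have hzC : z ∈ C := mem_inf.2 ⟨D.big.mem.1.1, D.z_centralizer⟩
  by_contra hno
  -- an element of order four, central modulo `z`
  set Z : Subgroup ↥C := zpowers ⟨z, hzC⟩ with hZ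
  haveI : Z.Normal := ⟨fun x hx g => by
    obtain ⟨i, rfl⟩ := mem_zpowers_iff.1 hx
    have hg : Commute g (⟨z, hzC⟩ : ↥C) := Subtype.ext ((mem_Zc.1 D.big.mem.1).2 g g.2.1)
    rw [(hg.zpow_right i).eq, mul_inv_cancel_right]
    exact zpow_mem (mem_zpowers _) i⟩
  have hmemZ : ∀ {x : ↥C}, x ∈ Z → (x : G) = 1 ∨ (x : G) = z := fun {x} hx => by
    obtain ⟨i, rfl⟩ := mem_zpowers_iff.1 hx
    show ((⟨z, hzC⟩ : ↥C) ^ i : ↥C).1 = 1 ∨ _
    rw [show (((⟨z, hzC⟩ : ↥C) ^ i : ↥C) : G) = z ^ i from SubgroupClass.coe_zpow _ _]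
    rcases Int.even_or_odd i with ⟨a, rfl⟩ | ⟨a, rfl⟩
    · left; rw [← two_mul, zpow_mul, zpow_two, D.big.mem.2, one_zpow]
    · right; rw [zpow_add, zpow_mul, zpow_two, D.big.mem.2, one_zpow, one_mul, zpow_one]
  haveI : Nontrivial (↥C ⧸ Z) :=
    ⟨⟨QuotientGroup.mk' Z ⟨c, hc, hcK⟩, 1, fun e => hno (hmemZ ((QuotientGroup.eq_one_iff _).1 e))⟩⟩
  have hp : IsPGroup 2 (↥C ⧸ Z) := (S.2.to_le (inf_le_left : C ≤ (S : Subgroup G))).to_quotient Z
  haveI := hp.center_nontrivial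
  obtain ⟨k, hk⟩ := IsPGroup.iff_card.1 (hp.to_subgroup (center (↥C ⧸ Z)))
  have hk0 : k ≠ 0 := fun e => by
    rw [e, pow_zero] at hk
    exact absurd (Finite.card_le_one_iff_subsingleton.1 hk.le) (not_subsingleton _)
  obtain ⟨qc, hqc⟩ := exists_prime_orderOf_dvd_card' (G := center (↥C ⧸ Z)) 2 (hk ▸ dvd_pow_self 2 hk0)
  obtain ⟨a, ha⟩ := QuotientGroup.mk'_surjective Z (qc : ↥C ⧸ Z)
  have ha1 : (a : G) * a = 1 → False := fun e => by
    have : qc = 1 := Subtype.ext (by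
      rw [← ha]
      refine (QuotientGroup.eq_one_iff a).2 ?_
      rcases hinv a a.2 e with h | h
      · rw [show a = 1 from Subtype.ext h]; exact one_mem _
      · rw [show a = ⟨z, hzC⟩ from Subtype.ext h]; exact mem_zpowers _)
    rw [this, orderOf_one] at hqc
    omega
  have haz : (a : G) * a = z := by
    have : a * a ∈ Z := (QuotientGroup.eq_one_iff _).1 (by
      show QuotientGroup.mk' Z (a * a) = 1
      rw [map_mul, ha, ← Subgroup.coe_mul, ← pow_two, ← hqc, pow_orderOf_eq_one]; rfl)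
    exact (hmemZ this).resolve_left ha1
  have hconj : ∀ s ∈ (S : Subgroup G), s * a * s⁻¹ = a ∨ s * a * s⁻¹ = a * z := by
    intro s hs
    obtain ⟨p, d, -, hdS, hdK, rfl⟩ := D.product hG hs
    have h1 : (⟨d, hdS, hdK⟩ * a * (⟨d, hdS, hdK⟩ : ↥C)⁻¹)⁻¹ * a ∈ Z := QuotientGroup.eq.1 (by
      show QuotientGroup.mk' Z _ = QuotientGroup.mk' Z a
      rw [map_mul, map_mul, map_inv, ha, mem_center_iff.1 qc.2, mul_inv_cancel_right])
    have hpd : (p : G) * d * a * ((p : G) * d)⁻¹ = d * a * d⁻¹ := by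
      have hm : d * (a : G) * d⁻¹ ∈ centralizer (K : Set G) := mul_mem (mul_mem hdK a.2.2) (inv_mem hdK)
      calc (p : G) * d * a * ((p : G) * d)⁻¹ = p * (d * a * d⁻¹) * (p : G)⁻¹ := by group
        _ = _ := by rw [mem_centralizer_iff.1 hm p p.2, mul_inv_cancel_right]
    rw [hpd]
    rcases hmemZ h1 with h | h
    · exact Or.inl (inv_mul_eq_one.1 h)
    · right
      have e : (a : G) = d * a * d⁻¹ * z := inv_mul_eq_iff_eq_mul.1 h
      calc d * (a : G) * d⁻¹ = d * a * d⁻¹ * z * z := by rw [mul_assoc _ z z, D.big.mem.2, mul_one]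
        _ = a * z := by rw [← e]
  -- move `z` into `K`
  obtain ⟨u, hu, huK, hu1, huz⟩ := D.big.exists_inner hG D.comp
  obtain ⟨n, hn, hnu⟩ := hall u hu hu1
  set a' : G := n * a * n⁻¹ with ha'
  have ha'S : a' ∈ (S : Subgroup G) := (mem_normalizer_iff.1 hn _).1 a.2.1
  obtain ⟨p, d, hpS, hdS, hdK, hpd⟩ := D.product hG ha'S
  have hpdc : Commute (p : G) d := mem_centralizer_iff.1 hdK p p.2
  have ho := D.orderOf_map hG hu huK hu1 huz
  have hsqp : pr K p * pr K p = pr K ⟨u, huK⟩ := by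
    rw [← map_mul]
    refine QuotientGroup.eq.2 (mem_center_iff.2 fun k => Subtype.ext ?_)
    show (k : G) * (((p : G) * p)⁻¹ * u) = ((p : G) * p)⁻¹ * u * k
    have e : ((p : G) * p)⁻¹ * u = d * d := inv_mul_eq_iff_eq_mul.2 (by
      calc u = a' * a' := by rw [← hnu, ← haz, ha']; group
        _ = p * (d * p) * d := by rw [hpd]; group
        _ = _ := by rw [hpdc.eq.symm]; group)
    rw [e]
    exact ((show Commute (k : G) d from mem_centralizer_iff.1 hdK k k.2).mul_right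
      (mem_centralizer_iff.1 hdK k k.2)).eq
  set Pb := P.mapSurjective (QuotientGroup.mk'_surjective (center ↥K)) with hPb
  have hx : pr K p ∈ (Pb : Subgroup (↥K ⧸ center ↥K)) := mem_map_of_mem _ (D.memP.2 hpS)
  have hπu1 : pr K ⟨u, huK⟩ ≠ 1 := fun e => by rw [e, orderOf_one] at ho; omega
  have hnab : ¬ IsMulCommutative ↥(Pb : Subgroup (↥K ⧸ center ↥K)) := fun h => hπu1 (by
    rw [← hsqp]; exact elem _ D.nonab Pb h _ hx)
  have hU := D.ufour hG hV h4 hnab
  have hxW : pr K p ∉ Cfsg.Lib.BenderSE.Ring2.cenOf (Pb : Subgroup (↥K ⧸ center ↥K)) := fun h =>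
    hπu1 (by rw [← hsqp]; exact hU.cen_sq h)
  have huW := hsqp ▸ hU.sq_cen _ hx
  obtain ⟨w, hw, hw1, hwu⟩ : ∃ w ∈ Cfsg.Lib.BenderSE.Ring2.cenOf (Pb : Subgroup (↥K ⧸ center ↥K)),
      w ≠ 1 ∧ w ≠ pr K ⟨u, huK⟩ := by
    by_contra hno'
    push Not at hno'
    have hsub : Set.ncard (Cfsg.Lib.BenderSE.Ring2.cenOf (Pb : Subgroup (↥K ⧸ center ↥K)) :
        Set (↥K ⧸ center ↥K)) ≤ ({1, pr K ⟨u, huK⟩} : Set (↥K ⧸ center ↥K)).ncard := by
      refine Set.ncard_le_ncard (fun w hw => ?_) (Set.toFinite _)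
      by_cases h : w = 1
      · exact Or.inl h
      · exact Or.inr (hno' w hw h)
    rw [← Nat.card_coe_set_eq] at hsub
    have h1 := (hsub.trans (Set.ncard_insert_le _ _))
    rw [Set.ncard_singleton] at h1
    exact absurd (hU.card_cen.ge.trans h1) (by norm_num)
  obtain ⟨y, hy, hyx⟩ := hU.exists_conj_eq_mul hx hxW hw
  obtain ⟨s, hs, rfl⟩ := hy
  have hsS := D.memP.1 hs
  have hstep : (s : G) * a' * (s : G)⁻¹ = a' ∨ (s : G) * a' * (s : G)⁻¹ = a' * u := by
    have hs' : n⁻¹ * s * n ∈ (S : Subgroup G) := (mem_normalizer_iff''.1 hn _).1 hsS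
    have e : (s : G) * a' * (s : G)⁻¹ = n * (n⁻¹ * s * n * a * (n⁻¹ * s * n)⁻¹) * n⁻¹ := by rw [ha']; group
    rcases hconj _ hs' with h | h
    · exact Or.inl (by rw [e, h])
    · exact Or.inr (by rw [e, h, ha', ← hnu]; group)
  have hval : (s : G) * a' * (s : G)⁻¹ = (s : G) * p * (s : G)⁻¹ * d := by
    rw [hpd]
    calc (s : G) * (p * d) * (s : G)⁻¹ = s * p * (d * (s : G)⁻¹) := by group
      _ = _ := by
        rw [((show Commute (s : G) d from mem_centralizer_iff.1 hdK s s.2).inv_left).eq.symm]; group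
  rw [← map_inv, ← map_mul, ← map_mul] at hyx
  rcases hstep with h | h
  · rw [hval, hpd] at h
    have e : s * p * s⁻¹ = p := Subtype.ext (mul_right_cancel h)
    rw [e] at hyx
    exact hw1 (mul_eq_right.1 hyx.symm)
  · rw [hval, hpd, mul_assoc (p : G) d u, (mem_Zc.1 hu.1).2 d hdS, ← mul_assoc (p : G) u d] at h
    have e : s * p * s⁻¹ = p * ⟨u, huK⟩ := Subtype.ext (mul_right_cancel h)
    rw [e, map_mul] at hyx
    refine hwu (mul_right_cancel (b := pr K p) ?_)
    rw [← hyx]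
    exact ((D.pair.qinvol _ ho (D.map_le (x := ⟨u, huK⟩) hu.1.1)).2 _ hx).symm

/-- a large centraliser is impossible -/
theorem absurd_tower (elem : ElemProp.{u}) (hS : ¬ IsMulCommutative ↥(S : Subgroup G))
    (hmove : ∃ n ∈ normalizer ((S : Subgroup G) : Set G), n * z * n⁻¹ ≠ z) : False := by
  haveI : Fact (Nat.Prime 2) := ⟨Nat.prime_two⟩
  haveI : Fact (Nat.Prime 7) := ⟨by norm_num⟩
  haveI := D.simple
  obtain ⟨V, hV, hV4⟩ := D.exists_spread hG
  have hall := hV.all_conj hmove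
  have hc := hV.card_eq
  have h8 := hV.card_le_eight hall
  have h4 : Nat.card ↥V = 4 := by omega
  obtain ⟨n, hn, ⟨k, hk⟩, hfree⟩ := hV.exists_seven hall (by omega)
  set Pb := P.mapSurjective (QuotientGroup.mk'_surjective (center ↥K)) with hPb
  -- the order of `S`
  have hsec : ∀ x : ↥(Pb : Subgroup (↥K ⧸ center ↥K)), ∃ p : K, (p : G) ∈ (S : Subgroup G) ∧ pr K p = x :=
    fun x => by
      obtain ⟨p, hp, e⟩ := (show (x : ↥K ⧸ center ↥K) ∈ (P : Subgroup K).map (pr K) from x.2)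
      exact ⟨p, D.memP.1 hp, e⟩
  choose σ hσS hσ using hsec
  have hSc : Nat.card ↥(S : Subgroup G) = Nat.card ↥(Pb : Subgroup (↥K ⧸ center ↥K)) * 2 := by
    let F : ↥(Pb : Subgroup (↥K ⧸ center ↥K)) × Bool → ↥(S : Subgroup G) := fun q =>
      ⟨(σ q.1 : G) * if q.2 then z else 1, mul_mem (hσS _) (by split_ifs; exacts [D.big.mem.1.1, one_mem _])⟩
    have hF : Function.Bijective F := by
      refine ⟨fun q q' e => ?_, fun s => ?_⟩
      · have e' : (σ q.1 : G) * (if q.2 then z else 1) = (σ q'.1 : G) * if q'.2 then z else 1 :=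
          congrArg Subtype.val e
        have h1 : pr K (σ q.1) = pr K (σ q'.1) := by
          refine QuotientGroup.eq.2 (mem_center_iff.2 fun k => Subtype.ext ?_)
          show (k : G) * ((σ q.1 : G)⁻¹ * σ q'.1) = (σ q.1 : G)⁻¹ * σ q'.1 * k
          have hm : (σ q.1 : G)⁻¹ * σ q'.1 = (if q.2 then z else 1) * (if q'.2 then z else 1)⁻¹ :=
            inv_mul_eq_iff_eq_mul.2 (by rw [← mul_assoc, e', mul_inv_cancel_right])
          rw [hm]
          have hz' : ∀ b : Bool, (if b then z else 1) ∈ centralizer (K : Set G) := fun b => by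
            split_ifs
            exacts [D.z_centralizer, one_mem _]
          exact mem_centralizer_iff.1 (mul_mem (hz' _) (inv_mem (hz' _))) k k.2
        rw [hσ, hσ] at h1
        obtain ⟨x, b⟩ := q
        obtain ⟨x', b'⟩ := q'
        obtain rfl : x = x' := Subtype.ext h1
        have hb := mul_left_cancel e'
        cases b <;> cases b' <;> simp_all [D.big.ne]
      · obtain ⟨p, c, hpS, hcS, hcK, e⟩ := D.product hG s.2
        set x : ↥(Pb : Subgroup (↥K ⧸ center ↥K)) := ⟨pr K p, mem_map_of_mem _ (D.memP.2 hpS)⟩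
        have hc1 : (σ x : G)⁻¹ * p ∈ centralizer (K : Set G) :=
          D.center_le (x := (σ x)⁻¹ * p) (QuotientGroup.eq.1 (hσ x))
        rcases D.centralizer_eq hG elem hV h4 hall (mul_mem (mul_mem (inv_mem (hσS x)) hpS) hcS)
          (mul_mem hc1 hcK) with h | h
        · exact ⟨(x, false), Subtype.ext (by
            show (σ x : G) * 1 = s
            rw [← h, e]; group)⟩
        · exact ⟨(x, true), Subtype.ext (by
            show (σ x : G) * z = s
            rw [← h, e]; group)⟩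
    rw [← Nat.card_eq_of_bijective F hF, Nat.card_prod, Nat.card_eq_fintype_card (α := Bool), Fintype.card_bool]
  by_cases hab : IsMulCommutative ↥(Pb : Subgroup (↥K ⧸ center ↥K))
  · have he := elem _ D.nonab Pb hab
    have hcard : Nat.card ↥(Pb : Subgroup (↥K ⧸ center ↥K)) = 4 := by
      rw [← D.card_sq_one hG hV h4]
      exact Nat.card_congr (Equiv.subtypeEquivRight fun x => ⟨fun h => ⟨h, he x h⟩, fun h => h.1⟩)
    have hW : (Wz S : Subgroup G) = (S : Subgroup G) := eq_of_le_of_card_ge (Wz_le S) (by omega)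
    refine hS ⟨⟨fun a b => Subtype.ext ?_⟩⟩
    exact ((mem_Zc.1 (hW.ge b.2).1).2 a a.2)
  · have hU := D.ufour hG hV h4 hab
    have h128 : Nat.card ↥(S : Subgroup G) = 128 := by rw [hSc, hU.card_all]
    let _ : MulAction ↥(zpowers n) ↥(S : Subgroup G) := MulAction.compHom _
      ((S : Subgroup G).normalizerMonoidHom.comp (inclusion (zpowers_le.2 hn)))
    have hp : IsPGroup 7 ↥(zpowers n) := IsPGroup.of_card (n := k) (by rw [Nat.card_zpowers, hk])
    have hmod := hp.card_modEq_card_fixedPoints ↥(S : Subgroup G)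
    rw [h128] at hmod
    set T := (S : Subgroup G) ⊓ centralizer ({n} : Set G) with hT
    have hcardT : 1 < Nat.card ↥T := by
      have h1 : Nat.card (MulAction.fixedPoints ↥(zpowers n) ↥(S : Subgroup G)) ≤ Nat.card ↥T := by
        refine Nat.card_le_card_of_injective (fun w => ⟨(w.1 : G), w.1.2, ?_⟩) fun a b e => ?_
        · refine mem_centralizer_singleton_iff.2 (Eq.symm (mul_inv_eq_iff_eq_mul.1 ?_))
          exact congrArg Subtype.val (w.2 ⟨n, mem_zpowers n⟩)
        · exact Subtype.ext (Subtype.ext (congrArg (fun t : ↥T => (t : G)) e))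
      unfold Nat.ModEq at hmod
      omega
    obtain ⟨j, hj⟩ := IsPGroup.iff_card.1 (S.2.to_le (inf_le_left : T ≤ (S : Subgroup G)))
    have hj0 : j ≠ 0 := fun e => hcardT.ne' (hj.trans (by rw [e, pow_zero]))
    obtain ⟨t, ht⟩ := exists_prime_orderOf_dvd_card' (G := ↥T) 2 (hj ▸ dvd_pow_self 2 hj0)
    have ht2 : (t : G) * t = 1 := by
      have := congrArg Subtype.val (pow_orderOf_eq_one t)
      rw [ht, SubgroupClass.coe_pow, pow_two] at this
      exact this
    have := hfree t (D.involution_central hG t.2.1 ht2) (by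
      rw [← mem_centralizer_singleton_iff.1 t.2.2, mul_inv_cancel_right])
    rw [show t = 1 from Subtype.ext this, orderOf_one] at ht
    omega

end Tower

end Cfsg.Lib.SylowRankOne
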