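import Cfsg.Agent.Walter.CI.Average

/-!
An elementary group of central involutions whose normaliser is transitive and whose point stabilisers are transitive
on a complement of the point: it has order at most eight, and order eight gives an element of order a power of seven.
-/

set_option autoImplicit false
set_option linter.unusedSectionVars false
set_option linter.style.haveILetI false

namespace Cfsg.Lib.SylowRankOne

open Subgroup Cfsg.Lib.Walter.CI

universe u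

variable {G : Type u} [Group G] [Finite G]

theorem parity_aux {a b c p q r : Prop} (ha : a ↔ ¬p) (hb : b ↔ ¬q) (hc : c ↔ ¬r) (hr : r ↔ (p ↔ q)) :
    ¬ ((a ↔ b) ↔ c) := by
  by_cases p <;> by_cases q <;> simp_all

theorem parity_sum {a b c a' b' c' : Prop} (h : ¬ ((a ↔ b) ↔ c)) (h' : ¬ ((a' ↔ b') ↔ c')) :
    (((a ↔ a') ↔ (b ↔ b')) ↔ (c ↔ c')) := by
  by_cases a <;> by_cases b <;> by_cases a' <;> by_cases b' <;> simp_all

/-- A complement `V` of `z` whose nontrivial elements are fused in `N(S) ∩ C(z)`. -/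
structure Spread (S : Sylow 2 G) (z : G) (V : Subgroup G) : Prop where
  mem : z ∈ Wz S
  ne : z ≠ 1
  le : V ≤ Wz S
  not_mem : z ∉ V
  split : ∀ w ∈ Wz S, w ∈ V ∨ z * w ∈ V
  inv : ∀ n ∈ normalizer ((S : Subgroup G) : Set G), n * z * n⁻¹ = z → ∀ v ∈ V, n * v * n⁻¹ ∈ V
  trans : ∀ v ∈ V, v ≠ 1 → ∀ v' ∈ V, v' ≠ 1 →
    ∃ n ∈ normalizer ((S : Subgroup G) : Set G), n * z * n⁻¹ = z ∧ n * v * n⁻¹ = v'
  nontriv : ∃ v ∈ V, v ≠ 1

namespace Spread

variable {S : Sylow 2 G} {z : G} {V : Subgroup G} (h : Spread S z V)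
include h

theorem zz : z * z = 1 := h.mem.2

theorem mul_mem_iff {a b : G} (ha : a ∈ Wz S) (hb : b ∈ Wz S) : a * b ∈ V ↔ (a ∈ V ↔ b ∈ V) := by
  constructor
  · intro hab
    constructor
    · intro h1; simpa using mul_mem (inv_mem h1) hab
    · intro h1; simpa using mul_mem hab (inv_mem h1)
  · intro hiff
    by_cases h1 : a ∈ V
    · exact mul_mem h1 (hiff.1 h1)
    have h2 : b ∉ V := fun e => h1 (hiff.2 e)
    have := mul_mem ((h.split a ha).resolve_left h1) ((h.split b hb).resolve_left h2)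
    rwa [show z * a * (z * b) = z * (a * z) * b by group, ← (show z * a = a * z from (mem_Zc.1 ha.1).2 z h.mem.1.1),
      ← mul_assoc z z a, h.zz, one_mul] at this

theorem card_eq : Nat.card ↥(Wz S) = 2 * Nat.card ↥V := by
  classical
  have e : ↥V × Bool ≃ ↥(Wz S) := by
    refine Equiv.ofBijective (fun p => if p.2 then ⟨z * p.1, mul_mem h.mem (h.le p.1.2)⟩ else ⟨p.1, h.le p.1.2⟩) ⟨?_, ?_⟩
    · rintro ⟨⟨a, ha⟩, i⟩ ⟨⟨b, hb⟩, j⟩ e
      cases i <;> cases j <;> simp only [Bool.false_eq_true, if_false, if_true, Subtype.mk.injEq] at e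
      · subst e; rfl
      · refine absurd ?_ h.not_mem
        simpa [e] using mul_mem ha (inv_mem hb)
      · refine absurd ?_ h.not_mem
        simpa [← e] using mul_mem hb (inv_mem ha)
      · rw [mul_right_inj] at e; subst e; rfl
    · rintro ⟨w, hw⟩
      rcases h.split w hw with h1 | h1
      · exact ⟨(⟨w, h1⟩, false), rfl⟩
      · exact ⟨(⟨z * w, h1⟩, true), Subtype.ext (show z * (z * w) = w by rw [← mul_assoc, h.zz, one_mul])⟩
  rw [← Nat.card_congr e, Nat.card_prod, Nat.card_eq_fintype_card (α := Bool), Fintype.card_bool, mul_comm]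

theorem even_card : Even (Nat.card ↥V) := by
  haveI : Fact (Nat.Prime 2) := ⟨Nat.prime_two⟩
  obtain ⟨k, hk⟩ := IsPGroup.iff_card.1 (S.2.to_le (h.le.trans (Wz_le S)))
  rw [hk]
  rcases k with _ | k
  · obtain ⟨v, hv, hv1⟩ := h.nontriv
    haveI : Subsingleton ↥V := Finite.card_le_one_iff_subsingleton.1 (by rw [hk, pow_zero])
    exact absurd (congrArg Subtype.val (Subsingleton.elim (⟨v, hv⟩ : ↥V) 1)) hv1
  · exact ⟨2 ^ k, by ring⟩

theorem index_odd :
    Odd (((normalizer ((S : Subgroup G) : Set G) ⊓ centralizer ({z} : Set G))).subgroupOf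
      (normalizer ((S : Subgroup G) : Set G))).index := by
  haveI : Fact (Nat.Prime 2) := ⟨Nat.prime_two⟩
  have h1 : ((S : Subgroup G).subgroupOf (normalizer ((S : Subgroup G) : Set G))) ≤
      (normalizer ((S : Subgroup G) : Set G) ⊓ centralizer ({z} : Set G)).subgroupOf
        (normalizer ((S : Subgroup G) : Set G)) := fun x hx =>
    mem_inf.2 ⟨x.2, mem_centralizer_singleton_iff.2 ((mem_Zc.1 h.mem.1).2 x hx)⟩
  have h2 := (S.subtype le_normalizer).not_dvd_index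
  rw [Sylow.coe_subtype] at h2
  rw [← Nat.not_even_iff_odd, even_iff_two_dvd]
  exact fun h3 => h2 (h3.trans (index_dvd_of_le h1))

/-- the number of conjugates of `z` -/
theorem orbit_card : Set.ncard {x : G | ∃ n ∈ normalizer ((S : Subgroup G) : Set G), n * z * n⁻¹ = x} =
    ((normalizer ((S : Subgroup G) : Set G) ⊓ centralizer ({z} : Set G)).subgroupOf
      (normalizer ((S : Subgroup G) : Set G))).index := by
  set N := normalizer ((S : Subgroup G) : Set G) with hN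
  let _ : MulAction ↥N G := MulAction.compHom G ((MulAut.conj : G →* MulAut G).comp N.subtype)
  have hsm : ∀ (n : N) (x : G), n • x = n * x * (n : G)⁻¹ := fun n x => rfl
  have hst : MulAction.stabilizer ↥N z = (N ⊓ centralizer ({z} : Set G)).subgroupOf N := by
    ext n
    rw [MulAction.mem_stabilizer_iff, hsm, mul_inv_eq_iff_eq_mul, mem_subgroupOf, mem_inf,
      mem_centralizer_singleton_iff]
    exact ⟨fun e => ⟨n.2, e⟩, fun e => e.2⟩
  rw [← hst, MulAction.index_stabilizer]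
  congr 1
  ext x
  constructor
  · rintro ⟨n, hn, e⟩
    exact ⟨⟨n, hn⟩, (hsm _ _).trans e⟩
  · rintro ⟨n, e⟩
    exact ⟨n, n.2, (hsm n z).symm.trans e⟩

/-- all central involutions are conjugate in the normaliser -/
theorem all_conj (hmove : ∃ n ∈ normalizer ((S : Subgroup G) : Set G), n * z * n⁻¹ ≠ z) :
    ∀ x ∈ Wz S, x ≠ 1 → ∃ n ∈ normalizer ((S : Subgroup G) : Set G), n * z * n⁻¹ = x := by
  classical
  set O := {x : G | ∃ n ∈ normalizer ((S : Subgroup G) : Set G), n * z * n⁻¹ = x} with hO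
  have hodd : Odd O.ncard := by rw [hO, h.orbit_card]; exact h.index_odd
  have hOW : ∀ x ∈ O, x ∈ Wz S ∧ x ≠ 1 := by
    rintro x ⟨n, hn, rfl⟩
    exact ⟨Wz_conj S hn h.mem, fun e => h.ne (conj_eq_one_iff.1 e)⟩
  -- invariance
  have hst : ∀ x ∈ O, ∀ m ∈ normalizer ((S : Subgroup G) : Set G), m * x * m⁻¹ ∈ O := by
    rintro x ⟨n, hn, rfl⟩ m hm
    exact ⟨m * n, mul_mem hm hn, by group⟩
  have hz : z ∈ O := ⟨1, one_mem _, by group⟩
  have hA : ∀ v ∈ V, v ≠ 1 → v ∈ O → ∀ v' ∈ V, v' ≠ 1 → v' ∈ O := by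
    intro v hv hv1 hvO v' hv' hv1'
    obtain ⟨n, hn, -, rfl⟩ := h.trans v hv hv1 v' hv' hv1'
    exact hst v hvO n hn
  have hB : ∀ v ∈ V, v ≠ 1 → z * v ∈ O → ∀ v' ∈ V, v' ≠ 1 → z * v' ∈ O := by
    intro v hv hv1 hvO v' hv' hv1'
    obtain ⟨n, hn, hnz, rfl⟩ := h.trans v hv hv1 v' hv' hv1'
    have := hst _ hvO n hn
    rwa [show n * (z * v) * n⁻¹ = n * z * n⁻¹ * (n * v * n⁻¹) by group, hnz] at this
  obtain ⟨n₀, hn₀, hne⟩ := hmove
  have hx₀ : n₀ * z * n₀⁻¹ ∈ O := ⟨n₀, hn₀, rfl⟩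
  have hcard : (V : Set G).ncard = Nat.card ↥V := (Nat.card_coe_set_eq _).symm
  -- both classes occur
  have hVin : ∃ v ∈ V, v ≠ 1 ∧ v ∈ O := by
    by_contra hno
    push Not at hno
    have e : O = (fun v => z * v) '' (V : Set G) := by
      refine Set.Subset.antisymm (fun x hx => ?_) ?_
      · obtain ⟨hxW, hx1⟩ := hOW x hx
        rcases h.split x hxW with h1 | h1
        · exact absurd hx (hno x h1 hx1)
        · exact ⟨z * x, h1, show z * (z * x) = x by rw [← mul_assoc, h.zz, one_mul]⟩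
      · rintro _ ⟨v, hv, rfl⟩
        by_cases hv1 : v = 1
        · show z * v ∈ O
          rw [hv1, mul_one]; exact hz
        obtain ⟨hxW, hx1⟩ := hOW _ hx₀
        have h1 := (h.split _ hxW).resolve_left fun h1 => hno _ h1 hx1 hx₀
        have h2 : z * (n₀ * z * n₀⁻¹) ≠ 1 := fun e => hne (by
          rw [eq_inv_of_mul_eq_one_right e]; exact inv_eq_of_mul_eq_one_right h.zz)
        exact hB _ h1 h2 (by rw [← mul_assoc z z, h.zz, one_mul]; exact hx₀) v hv hv1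
    rw [e, Set.ncard_image_of_injective _ (mul_right_injective z), hcard] at hodd
    exact Nat.not_even_iff_odd.2 hodd h.even_card
  have hzVin : ∃ v ∈ V, v ≠ 1 ∧ z * v ∈ O := by
    by_contra hno
    push Not at hno
    have e : O = insert z ((V : Set G) \ {1}) := by
      refine Set.Subset.antisymm (fun x hx => ?_) ?_
      · obtain ⟨hxW, hx1⟩ := hOW x hx
        rcases h.split x hxW with h1 | h1
        · exact Set.mem_insert_of_mem _ ⟨h1, hx1⟩
        · by_cases h2 : z * x = 1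
          · refine Set.mem_insert_iff.2 (Or.inl ?_)
            rw [eq_inv_of_mul_eq_one_right h2]; exact inv_eq_of_mul_eq_one_right h.zz
          · exact absurd (show z * (z * x) ∈ O by rwa [← mul_assoc, h.zz, one_mul]) (hno _ h1 h2)
      · rintro x (rfl | ⟨hx, hx1⟩)
        · exact hz
        obtain ⟨v, hv, hv1, hvO⟩ := hVin
        exact hA v hv hv1 hvO x hx hx1
    rw [e, Set.ncard_insert_of_notMem (fun hm => h.not_mem hm.1),
      Set.ncard_sdiff_singleton_of_mem (one_mem V), hcard, Nat.sub_add_cancel Nat.card_pos] at hodd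
    exact Nat.not_even_iff_odd.2 hodd h.even_card
  intro x hxW hx1
  show x ∈ O
  rcases h.split x hxW with h1 | h1
  · obtain ⟨v, hv, hv1, hvO⟩ := hVin
    exact hA v hv hv1 hvO x h1 hx1
  · by_cases h2 : z * x = 1
    · rw [eq_inv_of_mul_eq_one_right h2, inv_eq_of_mul_eq_one_right h.zz]; exact hz
    obtain ⟨v, hv, hv1, hvO⟩ := hzVin
    have := hB v hv hv1 hvO _ h1 h2
    rwa [← mul_assoc, h.zz, one_mul] at this

variable (hall : ∀ x ∈ Wz S, x ≠ 1 → ∃ n ∈ normalizer ((S : Subgroup G) : Set G), n * z * n⁻¹ = x)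
include hall

theorem card_le_eight : Nat.card ↥(Wz S) ≤ 8 := by
  classical
  haveI : Fact (Nat.Prime 2) := ⟨Nat.prime_two⟩
  set N := normalizer ((S : Subgroup G) : Set G) with hN
  have conjW : ∀ {n w : G}, n ∈ N → w ∈ Wz S → n⁻¹ * w * n ∈ Wz S := fun {n w} hn hw => by
    simpa using Wz_conj S (inv_mem hn) hw
  let E : G → G → Prop := fun x y => ∃ n ∈ N, n * z * n⁻¹ = x ∧ n⁻¹ * y * n ∈ V
  have hE : ∀ {x y n : G}, n ∈ N → n * z * n⁻¹ = x → (E x y ↔ n⁻¹ * y * n ∈ V) := by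
    intro x y n hn hx
    refine ⟨?_, fun h1 => ⟨n, hn, hx, h1⟩⟩
    rintro ⟨m, hm, hmx, h1⟩
    have hfix : n⁻¹ * m * z * (n⁻¹ * m)⁻¹ = z := by
      rw [show n⁻¹ * m * z * (n⁻¹ * m)⁻¹ = n⁻¹ * (m * z * m⁻¹) * n by group, hmx, ← hx]; group
    have := h.inv _ (mul_mem (inv_mem hn) hm) hfix _ h1
    rwa [show n⁻¹ * m * (m⁻¹ * y * m) * (n⁻¹ * m)⁻¹ = n⁻¹ * y * n by group] at this
  have hadd : ∀ {x a b : G}, x ∈ Wz S → x ≠ 1 → a ∈ Wz S → b ∈ Wz S → (E x (a * b) ↔ (E x a ↔ E x b)) := by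
    intro x a b hx hx1 ha hb
    obtain ⟨n, hn, e⟩ := hall x hx hx1
    rw [hE hn e, hE hn e, hE hn e, show n⁻¹ * (a * b) * n = n⁻¹ * a * n * (n⁻¹ * b * n) by group]
    exact h.mul_mem_iff (conjW hn ha) (conjW hn hb)
  have hasym : ∀ {x y : G}, x ∈ Wz S → x ≠ 1 → y ∈ Wz S → y ≠ 1 → x ≠ y → (E x y ↔ ¬ E y x) := by
    intro x y hx hx1 hy hy1 hxy
    by_contra hno
    have hiff : E x y ↔ E y x := by by_cases p : E x y <;> by_cases q : E y x <;> simp_all
    obtain ⟨n₀, hn₀, e₀⟩ := hall x hx hx1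
    obtain ⟨n₁, hn₁, e₁⟩ := hall y hy hy1
    set n := n₁ * n₀⁻¹ with hn
    have hnN : n ∈ N := mul_mem hn₁ (inv_mem hn₀)
    have hnx : n * x * n⁻¹ = y := by rw [hn, ← e₀, ← e₁]; group
    set y' := n * y * n⁻¹ with hy'
    have hyy : E y y' ↔ E x y := by
      rw [hE hn₁ e₁, hE hn₀ e₀, show n₁⁻¹ * y' * n₁ = n₀⁻¹ * y * n₀ by rw [hy', hn]; group]
    rw [hiff, hE hn₁ e₁, hE hn₁ e₁] at hyy
    set a := n₁⁻¹ * y' * n₁ with ha
    set b := n₁⁻¹ * x * n₁ with hb
    have haW : a ∈ Wz S := conjW hn₁ (Wz_conj S hnN hy)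
    have hbW : b ∈ Wz S := conjW hn₁ hx
    have ha1 : a ≠ 1 := fun e => hy1 (by
      rw [show y = n⁻¹ * (n₁ * a * n₁⁻¹) * n by rw [ha, hy']; group, e]; group)
    have haz : a ≠ z := fun e => hxy (by
      have h1 : n * y * n⁻¹ = n * x * n⁻¹ := by
        calc n * y * n⁻¹ = n₁ * a * n₁⁻¹ := by rw [ha, hy']; group
          _ = y := by rw [e, e₁]
          _ = _ := hnx.symm
      exact (mul_left_cancel (mul_right_cancel h1)).symm)
    have hb1 : b ≠ 1 := fun e => hx1 (by rw [show x = n₁ * b * n₁⁻¹ by rw [hb]; group, e]; group)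
    have hbz : b ≠ z := fun e => hxy (by rw [← e₁, ← e, hb]; group)
    have hne : ∀ {c : G}, c ≠ z → z * c ≠ 1 := fun {c} hc e => hc (by
      rw [eq_inv_of_mul_eq_one_right e]; exact inv_eq_of_mul_eq_one_right h.zz)
    obtain ⟨m, hm, hmz, hma⟩ : ∃ m ∈ N, m * z * m⁻¹ = z ∧ m * a * m⁻¹ = b := by
      by_cases h1 : a ∈ V
      · exact h.trans a h1 ha1 b (hyy.1 h1) hb1
      have h2 : b ∉ V := fun e => h1 (hyy.2 e)
      obtain ⟨m, hm, hmz, hma⟩ := h.trans _ ((h.split a haW).resolve_left h1) (hne haz) _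
        ((h.split b hbW).resolve_left h2) (hne hbz)
      refine ⟨m, hm, hmz, mul_left_cancel (a := z) ?_⟩
      rw [← hma]
      conv_lhs => arg 1; rw [← hmz]
      group
    set g := n₁ * m * n₁⁻¹ * n with hg
    have hgN : g ∈ N := mul_mem (mul_mem (mul_mem hn₁ hm) (inv_mem hn₁)) hnN
    have hgx : g * x * g⁻¹ = y := by
      calc g * x * g⁻¹ = n₁ * (m * (n₁⁻¹ * (n * x * n⁻¹) * n₁) * m⁻¹) * n₁⁻¹ := by rw [hg]; group
        _ = n₁ * (m * z * m⁻¹) * n₁⁻¹ := by rw [hnx, ← e₁]; group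
        _ = y := by rw [hmz, e₁]
    have hgy : g * y * g⁻¹ = x := by
      calc g * y * g⁻¹ = n₁ * (m * a * m⁻¹) * n₁⁻¹ := by rw [hg, ha, hy']; group
        _ = x := by rw [hma, hb]; group
    have hsw : ∀ k, g ^ (2 * k + 1) * x * (g ^ (2 * k + 1))⁻¹ = y := by
      intro k
      induction k with
      | zero => simpa using hgx
      | succ k ih =>
        rw [show 2 * (k + 1) + 1 = 1 + (1 + (2 * k + 1)) by ring, pow_add, pow_add, pow_one,
          show g * (g * g ^ (2 * k + 1)) * x * (g * (g * g ^ (2 * k + 1)))⁻¹ =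
            g * (g * (g ^ (2 * k + 1) * x * (g ^ (2 * k + 1))⁻¹) * g⁻¹) * g⁻¹ by group, ih, hgy, hgx]
    obtain ⟨k, m', hm'odd, hord⟩ := Nat.exists_eq_two_pow_mul_odd (orderOf_pos g).ne'
    obtain ⟨j, rfl⟩ := hm'odd
    have hp : IsPGroup 2 ↥(zpowers (g ^ (2 * j + 1))) := by
      refine IsPGroup.of_card (n := k) ?_
      rw [Nat.card_zpowers, orderOf_pow_of_dvd (by omega) ⟨2 ^ k, by rw [hord, mul_comm]⟩, hord,
        Nat.mul_div_cancel _ (by omega)]
    have hS : g ^ (2 * j + 1) ∈ (S : Subgroup G) :=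
      (S.3 (hp.to_sup_of_normal_right' S.isPGroup' (zpowers_le.2 (pow_mem hgN _))) le_sup_right).le
        (mem_sup_left (mem_zpowers _))
    refine hxy ?_
    rw [← hsw j, (mem_Zc.1 hx.1).2 _ hS, mul_inv_cancel_right]
  -- the final count
  by_contra hbig
  push Not at hbig
  haveI := Fintype.ofFinite ↥(Wz S)
  rw [Nat.card_eq_fintype_card] at hbig
  have pick : ∀ A : Finset ↥(Wz S), A.card ≤ 8 → ∃ w : ↥(Wz S), w ∉ A := by
    intro A hA
    by_contra hno
    push Not at hno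
    have : Fintype.card ↥(Wz S) ≤ A.card := by
      rw [← Finset.card_univ]; exact Finset.card_le_card fun w _ => hno w
    omega
  have le3 : ∀ a b c d : ↥(Wz S), ({a, b, c, d} : Finset ↥(Wz S)).card ≤ 4 := fun a b c d => by
    refine (Finset.card_insert_le _ _).trans ?_
    have h3 : ({b, c, d} : Finset ↥(Wz S)).card ≤ 3 := Finset.card_le_three
    omega
  obtain ⟨x, hx⟩ := pick {1} (by simp)
  obtain ⟨x', hx'⟩ := pick {1, x} ((Finset.card_le_two).trans (by norm_num))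
  simp only [Finset.mem_insert, Finset.mem_singleton, not_or] at hx hx'
  set A : Finset ↥(Wz S) := {1, x, x', x * x'} with hA
  obtain ⟨y₁, hy₁⟩ := pick A ((le3 _ _ _ _).trans (by norm_num))
  obtain ⟨y₂, hy₂⟩ := pick (A ∪ A.image (fun a => y₁⁻¹ * a)) ((Finset.card_union_le _ _).trans (by
    have h1 := le3 1 x x' (x * x')
    have h2 := Finset.card_image_le (s := A) (f := fun a => y₁⁻¹ * a)
    rw [hA] at h2 ⊢
    omega))
  rw [Finset.mem_union, not_or] at hy₂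
  have hy₁₂ : y₁ * y₂ ∉ A := fun hm =>
    hy₂.2 (Finset.mem_image.2 ⟨y₁ * y₂, hm, inv_mul_cancel_left y₁ y₂⟩)
  have hxx : x * x' ≠ 1 := fun e => hx'.2 (by
    rw [eq_inv_of_mul_eq_one_right e]
    exact inv_eq_of_mul_eq_one_right (Subtype.ext x.2.2))
  have ne1 : ∀ {w : ↥(Wz S)}, w ≠ 1 → (w : G) ≠ 1 := fun hw e => hw (Subtype.ext e)
  have key : ∀ y : ↥(Wz S), y ∉ A →
      ¬ ((E x (y : G) ↔ E x' (y : G)) ↔ E ((x * x' : ↥(Wz S)) : G) y) := by
    intro y hy
    simp only [hA, Finset.mem_insert, Finset.mem_singleton, not_or] at hy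
    obtain ⟨h1, h2, h3, h4⟩ := hy
    have a1 := hasym x.2 (ne1 hx) y.2 (ne1 h1) fun e => h2 (Subtype.ext e.symm)
    have a2 := hasym x'.2 (ne1 hx'.1) y.2 (ne1 h1) fun e => h3 (Subtype.ext e.symm)
    have a3 := hasym (x * x').2 (ne1 hxx) y.2 (ne1 h1) fun e => h4 (Subtype.ext e.symm)
    have a4 : E y ((x * x' : ↥(Wz S)) : G) ↔ (E y x ↔ E y x') := by
      rw [coe_mul]; exact hadd y.2 (ne1 h1) x.2 x'.2
    exact parity_aux a1 a2 a3 a4
  have k1 := key y₁ hy₁
  have k2 := key y₂ hy₂.1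
  have k3 := key _ hy₁₂
  rw [coe_mul _ y₁ y₂, hadd x.2 (ne1 hx) y₁.2 y₂.2, hadd x'.2 (ne1 hx'.1) y₁.2 y₂.2,
    hadd (x * x').2 (ne1 hxx) y₁.2 y₂.2] at k3
  exact k3 (parity_sum k1 k2)

theorem exists_seven (h8 : Nat.card ↥(Wz S) = 8) :
    ∃ n ∈ normalizer ((S : Subgroup G) : Set G), (∃ k, orderOf n = 7 ^ k) ∧
      ∀ w ∈ Wz S, n * w * n⁻¹ = w → w = 1 := by
  classical
  haveI : Fact (Nat.Prime 7) := ⟨by norm_num⟩
  set N := normalizer ((S : Subgroup G) : Set G) with hN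
  have hO : {x : G | ∃ n ∈ N, n * z * n⁻¹ = x} = (Wz S : Set G) \ {1} := by
    ext x
    refine ⟨?_, fun hx => hall x hx.1 hx.2⟩
    rintro ⟨n, hn, rfl⟩
    exact ⟨Wz_conj S hn h.mem, fun e => h.ne (conj_eq_one_iff.1 e)⟩
  have h7 : ((N ⊓ centralizer ({z} : Set G)).subgroupOf N).index = 7 := by
    rw [← h.orbit_card, hO, Set.ncard_sdiff_singleton_of_mem (one_mem (Wz S)), ← Nat.card_coe_set_eq]
    exact (congrArg (· - 1) h8)
  obtain ⟨Q⟩ : Nonempty (Sylow 7 ↥N) := inferInstance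
  obtain ⟨q, hq, hqz⟩ : ∃ q ∈ (Q : Subgroup ↥N), q ∉ (N ⊓ centralizer ({z} : Set G)).subgroupOf N := by
    by_contra hno
    push Not at hno
    exact Q.not_dvd_index ((dvd_of_eq h7.symm).trans (index_dvd_of_le hno))
  obtain ⟨k, hk⟩ := Q.2.exists_orderOf_eq_pow ⟨q, hq⟩
  rw [Subgroup.orderOf_mk, ← orderOf_coe] at hk
  refine ⟨q, q.2, ⟨k, hk⟩, ?_⟩
  set n : G := (q : G) with hn
  let _ : MulAction ↥(zpowers n) ↥(Wz S) := MulAction.compHom _ ((Wz S).normalizerMonoidHom.comp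
    (inclusion (zpowers_le.2 (Wz_normal S q.2))))
  have hsm : ∀ (a : zpowers n) (w : ↥(Wz S)), ((a • w : ↥(Wz S)) : G) = a * w * (a : G)⁻¹ := fun a w => rfl
  have hp : IsPGroup 7 ↥(zpowers n) := IsPGroup.of_card (n := k) (by rw [Nat.card_zpowers, hk])
  have hmod := hp.card_modEq_card_fixedPoints ↥(Wz S)
  rw [h8] at hmod
  have hfix : ∀ w : ↥(Wz S), n * w * n⁻¹ = w → w ∈ MulAction.fixedPoints ↥(zpowers n) ↥(Wz S) := by
    intro w hw a
    obtain ⟨i, hi⟩ := mem_zpowers_iff.1 a.2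
    refine Subtype.ext ?_
    rw [hsm, ← hi, ((show Commute n w from mul_inv_eq_iff_eq_mul.1 hw).zpow_left i).eq, mul_inv_cancel_right]
  have hzfix : (⟨z, h.mem⟩ : ↥(Wz S)) ∉ MulAction.fixedPoints ↥(zpowers n) ↥(Wz S) := fun hm => hqz
    (mem_inf.2 ⟨q.2, mem_centralizer_singleton_iff.2 (mul_inv_eq_iff_eq_mul.1
      (congrArg Subtype.val (hm ⟨n, mem_zpowers n⟩)))⟩)
  have hlt : Nat.card (MulAction.fixedPoints ↥(zpowers n) ↥(Wz S)) < 8 := h8 ▸
    Finite.card_subtype_lt (p := fun w => w ∈ MulAction.fixedPoints ↥(zpowers n) ↥(Wz S)) hzfix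
  have h1 : Nat.card (MulAction.fixedPoints ↥(zpowers n) ↥(Wz S)) = 1 := by
    unfold Nat.ModEq at hmod
    omega
  intro w hw hww
  haveI : Subsingleton (MulAction.fixedPoints ↥(zpowers n) ↥(Wz S)) :=
    Finite.card_le_one_iff_subsingleton.1 h1.le
  exact congrArg (fun a : MulAction.fixedPoints ↥(zpowers n) ↥(Wz S) => ((a : ↥(Wz S)) : G))
    (Subsingleton.elim ⟨⟨w, hw⟩, hfix ⟨w, hw⟩ hww⟩ ⟨1, hfix 1 (by simp)⟩)

end Spread

end Cfsg.Lib.SylowRankOne
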