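import Cfsg.Agent.SylowRankOne.Quot
import Cfsg.Agent.SylowRankOne.Tournament

/-!
The central involutions over a component form a group of order eight.
-/

set_option autoImplicit false
set_option linter.unusedSectionVars false
set_option linter.style.haveILetI false

namespace Cfsg.Lib.SylowRankOne

open Subgroup Cfsg.Lib.Walter.CI

universe u

variable {G : Type u} [Group G] [Finite G]

namespace Tower

variable {S : Sylow 2 G} {z : G} {K : Subgroup G} {P : Sylow 2 K} {H : Subgroup (↥K ⧸ center ↥K)}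
  (D : Tower S z K P H) (hG : Uniq G)
include D hG

theorem pr_eq_of_mul_z {u u' : G} (hu : u ∈ K) (hu' : u' ∈ K) (h : u = u' * z) : pr K ⟨u, hu⟩ = pr K ⟨u', hu'⟩ := by
  refine (QuotientGroup.eq (s := center ↥K)).2 (mem_center_iff.2 fun k => Subtype.ext ?_)
  show (k : G) * (u⁻¹ * u') = u⁻¹ * u' * k
  rw [h, show (u' * z)⁻¹ * u' = z⁻¹ by group]
  exact ((show Commute (k : G) z from D.commute_z).inv_right).eq

/-- two central involutions of `K` with the same image differ by a power of `z` -/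
theorem eq_or_eq_mul {u u' : G} (hu : u ∈ Wz S) (hu' : u' ∈ Wz S) (huK : u ∈ K) (huK' : u' ∈ K)
    (e : pr K ⟨u, huK⟩ = pr K ⟨u', huK'⟩) : u = u' ∨ u = u' * z := by
  have hm := mul_mem hu' hu
  have h2 : pr K (⟨u', huK'⟩ * ⟨u, huK⟩) = 1 := by
    rw [map_mul, e, ← map_mul, ← map_one (pr K)]
    exact congrArg (pr K) (Subtype.ext hu'.2)
  rcases D.eq_of_center hG h2 hm.1.1 hm.2 with h | h
  · left
    rw [eq_inv_of_mul_eq_one_right (show u' * u = 1 from h)]
    exact inv_eq_of_mul_eq_one_right hu'.2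
  · right
    rw [← (show u' * u = z from h), ← mul_assoc, hu'.2, one_mul]

set_option maxHeartbeats 800000 in
theorem exists_spread : ∃ V : Subgroup G, Spread S z V ∧ 4 ≤ Nat.card ↥V := by
  haveI : Fact (Nat.Prime 2) := ⟨Nat.prime_two⟩
  haveI := D.simple
  set N := normalizer ((S : Subgroup G) : Set G) with hN
  set Nz := N ⊓ centralizer ({z} : Set G) with hNz
  obtain ⟨φ, hφfix, hφinv, hφid, -⟩ := exists_average S Nz inf_le_left
  have hzmem := D.big.mem
  set ζ : ↥(Wz S) := ⟨z, hzmem⟩ with hζ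
  have hzz : ζ * ζ = 1 := Subtype.ext hzmem.2
  have hζ1 : ζ ≠ 1 := fun e => D.big.ne (congrArg Subtype.val e)
  -- fusion from the component
  have hfuse : ∀ {u u' : G}, u ∈ Wz S → u' ∈ Wz S → u ∈ K → u' ∈ K → u ≠ 1 → u ≠ z → u' ≠ 1 → u' ≠ z →
      ∃ n ∈ Nz, n * u * n⁻¹ = u' ∨ n * u * n⁻¹ = u' * z := by
    intro u u' hu hu' huK huK' hu1 huz hu1' huz'
    have o := D.orderOf_map hG hu huK hu1 huz
    have o' := D.orderOf_map hG hu' huK' hu1' huz'
    obtain ⟨h, hh, e⟩ := D.pair.fuse _ (D.pair.qinvol _ o (D.map_le hu.1.1)).1 _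
      (D.pair.qinvol _ o' (D.map_le hu'.1.1)).1 o o'
    obtain ⟨y, rfl⟩ := QuotientGroup.mk'_surjective (center ↥K) h
    have hyN := (D.mem y).1 hh
    refine ⟨y, ⟨hyN, mem_centralizer_singleton_iff.2 D.commute_z⟩, ?_⟩
    rw [← map_inv, ← map_mul, ← map_mul] at e
    exact D.eq_or_eq_mul hG (Wz_conj S hyN hu) hu' (mul_mem (mul_mem y.2 huK) (inv_mem y.2)) huK' e
  -- moved points
  have hmoved : ∀ {u : G}, u ∈ Wz S → (huK : u ∈ K) → u ≠ 1 → u ≠ z →
      ∃ n ∈ Nz, n ∈ K ∧ n * u * n⁻¹ ≠ u ∧ n * u * n⁻¹ ≠ u * z := by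
    intro u hu huK hu1 huz
    have o := D.orderOf_map hG hu huK hu1 huz
    obtain ⟨h, hh, e⟩ := D.pair.moves _ (D.pair.qinvol _ o (D.map_le hu.1.1)).1 o
    obtain ⟨y, rfl⟩ := QuotientGroup.mk'_surjective (center ↥K) h
    rw [← map_inv, ← map_mul, ← map_mul] at e
    refine ⟨y, ⟨(D.mem y).1 hh, mem_centralizer_singleton_iff.2 D.commute_z⟩, y.2, fun h1 => e ?_, fun h1 => e ?_⟩
    · exact congrArg (pr K) (Subtype.ext h1)
    · exact D.pr_eq_of_mul_z hG _ huK h1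
  -- the fixed points
  have hfixed : ∀ w : ↥(Wz S), (∀ n ∈ Nz, n * (w : G) * n⁻¹ = w) → w = 1 ∨ w = ζ := by
    intro w hw
    by_contra hno
    push Not at hno
    obtain ⟨u, hu, huK, hwu⟩ := D.split hG w.2
    have hu1 : u ≠ 1 := fun e => by
      rcases hwu with h | h
      · exact hno.1 (Subtype.ext (h.trans e))
      · exact hno.2 (Subtype.ext (by rw [h, e, one_mul]))
    have huz : u ≠ z := fun e => by
      rcases hwu with h | h
      · exact hno.2 (Subtype.ext (h.trans e))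
      · exact hno.1 (Subtype.ext (by rw [h, e]; exact hzmem.2))
    obtain ⟨n, hn, -, hn1, -⟩ := hmoved hu huK hu1 huz
    refine hn1 ?_
    have h1 := hw n hn
    rcases hwu with h | h
    · rwa [h] at h1
    · rw [h, show n * (u * z) * n⁻¹ = n * u * n⁻¹ * (n * z * n⁻¹) by group,
        mem_centralizer_singleton_iff.1 hn.2, mul_inv_cancel_right] at h1
      exact mul_right_cancel h1
  have hφζ : φ ζ = ζ := hφid ζ fun n hn => by
    show n * z * n⁻¹ = z
    rw [mem_centralizer_singleton_iff.1 hn.2, mul_inv_cancel_right]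
  have himg : ∀ w, φ w = 1 ∨ φ w = ζ := fun w => hfixed _ fun n hn => hφfix n hn w
  set V := φ.ker.map (Wz S).subtype with hV
  have hmemV : ∀ {w : G} (hw : w ∈ Wz S), w ∈ V ↔ φ ⟨w, hw⟩ = 1 := fun {w} hw => by
    constructor
    · rintro ⟨x, hx, e⟩
      rwa [show (⟨w, hw⟩ : ↥(Wz S)) = x from Subtype.ext e.symm]
    · exact fun e => ⟨⟨w, hw⟩, e, rfl⟩
  have hle : V ≤ Wz S := map_subtype_le _
  have hnot : z ∉ V := fun hm => hζ1 (hφζ ▸ (hmemV hzmem).1 hm)
  have hsplit : ∀ w ∈ Wz S, w ∈ V ∨ z * w ∈ V := fun w hw => by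
    rcases himg ⟨w, hw⟩ with e | e
    · exact Or.inl ((hmemV hw).2 e)
    · refine Or.inr ((hmemV (mul_mem hzmem hw)).2 ?_)
      show φ (ζ * ⟨w, hw⟩) = 1
      rw [map_mul, e, hφζ, hzz]
  have hinv : ∀ n ∈ N, n * z * n⁻¹ = z → ∀ v ∈ V, n * v * n⁻¹ ∈ V := fun n hn hnz v hv => by
    refine (hmemV (Wz_conj S hn (hle hv))).2 ?_
    rw [hφinv n ⟨hn, mem_centralizer_singleton_iff.2 (mul_inv_eq_iff_eq_mul.1 hnz)⟩ ⟨v, hle hv⟩ _ rfl]
    exact (hmemV (hle hv)).1 hv
  have hrep : ∀ v ∈ V, v ≠ 1 → ∃ u ∈ Wz S, u ∈ K ∧ u ≠ 1 ∧ u ≠ z ∧ (v = u ∨ v = u * z) := by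
    intro v hv hv1
    obtain ⟨u, hu, huK, hvu⟩ := D.split hG (hle hv)
    refine ⟨u, hu, huK, fun e => ?_, fun e => ?_, hvu⟩
    · rcases hvu with h | h
      · exact hv1 (h.trans e)
      · rw [h, e, one_mul] at hv; exact hnot hv
    · rcases hvu with h | h
      · rw [h, e] at hv; exact hnot hv
      · exact hv1 (by rw [h, e]; exact hzmem.2)
  have hpair : ∀ {v v' : G}, v ∈ V → v' ∈ V → (v = v' ∨ v = v' * z) → v = v' := fun {v v'} hv hv' h =>
    h.resolve_right fun e => hnot (by simpa [e] using mul_mem (inv_mem hv') hv)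
  have htrans : ∀ v ∈ V, v ≠ 1 → ∀ v' ∈ V, v' ≠ 1 → ∃ n ∈ N, n * z * n⁻¹ = z ∧ n * v * n⁻¹ = v' := by
    intro v hv hv1 v' hv' hv1'
    obtain ⟨u, hu, huK, hu1, huz, hvu⟩ := hrep v hv hv1
    obtain ⟨u', hu', huK', hu1', huz', hvu'⟩ := hrep v' hv' hv1'
    obtain ⟨n, hn, hnu⟩ := hfuse hu hu' huK huK' hu1 huz hu1' huz'
    have hnz : n * z * n⁻¹ = z := by rw [mem_centralizer_singleton_iff.1 hn.2, mul_inv_cancel_right]
    refine ⟨n, hn.1, hnz, hpair (hinv n hn.1 hnz v hv) hv' ?_⟩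
    have hn' : n * v * n⁻¹ = n * u * n⁻¹ ∨ n * v * n⁻¹ = n * u * n⁻¹ * z := by
      rcases hvu with h | h
      · exact Or.inl (by rw [h])
      · exact Or.inr (by rw [h, show n * (u * z) * n⁻¹ = n * u * n⁻¹ * (n * z * n⁻¹) by group, hnz])
    rcases hn' with h | h <;> rcases hnu with h' | h' <;> rcases hvu' with h'' | h'' <;>
      simp only [h, h', h'', mul_assoc, hzmem.2, mul_one, true_or, or_true]
  -- three elements of `V`
  obtain ⟨u, hu, huK, hu1, huz⟩ := D.big.exists_inner hG D.comp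
  have hpart : ∀ {a : G}, a ∈ Wz S → a ≠ 1 → a ≠ z → ∃ v ∈ V, v ≠ 1 ∧ (v = a ∨ v = a * z) := by
    intro a ha ha1 haz
    have hc : z * a = a * z := ((mem_Zc.1 ha.1).2 z hzmem.1.1)
    rcases hsplit a ha with h | h
    · exact ⟨a, h, ha1, Or.inl rfl⟩
    · refine ⟨z * a, h, fun e => haz ?_, Or.inr hc⟩
      rw [eq_inv_of_mul_eq_one_right e]; exact inv_eq_of_mul_eq_one_right hzmem.2
  obtain ⟨n, hn, -, hn1, hn2⟩ := hmoved hu huK hu1 huz
  have hnz : n * z * n⁻¹ = z := by rw [mem_centralizer_singleton_iff.1 hn.2, mul_inv_cancel_right]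
  obtain ⟨v, hv, hv1, hvu⟩ := hpart hu hu1 huz
  refine ⟨V, ⟨hzmem, D.big.ne, hle, hnot, hsplit, hinv, htrans, ⟨v, hv, hv1⟩⟩, ?_⟩
  have hv' := hinv n hn.1 hnz v hv
  have hne : n * v * n⁻¹ ≠ v := fun e => by
    rcases hvu with h | h
    · exact hn1 (by rwa [h] at e)
    · refine hn1 (mul_right_cancel (b := z) ?_)
      rw [h, show n * (u * z) * n⁻¹ = n * u * n⁻¹ * (n * z * n⁻¹) by group, hnz] at e
      exact e
  obtain ⟨k, hk⟩ := IsPGroup.iff_card.1 (S.2.to_le (hle.trans (Wz_le S)))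
  let f : Fin 3 → ↥V := ![1, ⟨v, hv⟩, ⟨_, hv'⟩]
  have hf : Function.Injective f := by
    intro i j e
    have e' : ((f i : ↥V) : G) = f j := by rw [e]
    fin_cases i <;> fin_cases j <;> simp [f] at e' <;>
      first | rfl | exact absurd (conj_eq_one_iff.1 e') hv1 | exact absurd (conj_eq_one_iff.1 e'.symm) hv1 | exact absurd e' hv1 | exact absurd e'.symm hv1 | exact absurd e' hne | exact absurd e'.symm hne
  have h3 : 3 ≤ Nat.card ↥V := by simpa using Nat.card_le_card_of_injective f hf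
  rw [hk] at h3 ⊢
  rcases k with _ | _ | k
  · rw [pow_zero] at h3; omega
  · rw [pow_one] at h3; omega
  · have := Nat.one_le_two_pow (n := k)
    rw [pow_add, pow_add]
    omega

/-- exactly four elements of square one in the Sylow subgroup of the simple quotient -/
theorem card_sq_one {V : Subgroup G} (hV : Spread S z V) (h4 : Nat.card ↥V = 4) :
    Nat.card {x // x ∈ (P.mapSurjective (QuotientGroup.mk'_surjective (center ↥K)) :
      Subgroup (↥K ⧸ center ↥K)) ∧ x * x = 1} = 4 := by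
  haveI : Fact (Nat.Prime 2) := ⟨Nat.prime_two⟩
  haveI := D.simple
  have hrep : ∀ v : ↥V, ∃ u : K, (u : G) ∈ Wz S ∧ ((v : G) = u ∨ (v : G) = (u : G) * z) := fun v => by
    obtain ⟨u, hu, huK, h⟩ := D.split hG (hV.le v.2)
    exact ⟨⟨u, huK⟩, hu, h⟩
  choose f hf hfv using hrep
  have hsq : ∀ v, pr K (f v) * pr K (f v) = 1 := fun v => by
    rw [← map_mul, ← map_one (pr K)]
    exact congrArg (pr K) (Subtype.ext (hf v).2)
  let F : ↥V → {x // x ∈ (P.mapSurjective (QuotientGroup.mk'_surjective (center ↥K)) :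
      Subgroup (↥K ⧸ center ↥K)) ∧ x * x = 1} := fun v =>
    ⟨pr K (f v), mem_map_of_mem _ (D.memP.2 (hf v).1.1), hsq v⟩
  have hpair : ∀ {v v' : G}, v ∈ V → v' ∈ V → (v = v' ∨ v = v' * z) → v = v' := fun {v v'} hv hv' h =>
    h.resolve_right fun e => hV.not_mem (by simpa [e] using mul_mem (inv_mem hv') hv)
  rw [← h4]
  refine (Nat.card_eq_of_bijective F ⟨fun v v' e => Subtype.ext (hpair v.2 v'.2 ?_), ?_⟩).symm
  · have h1 := D.eq_or_eq_mul hG (hf v) (hf v') (f v).2 (f v').2 (congrArg Subtype.val e)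
    rcases hfv v with h | h <;> rcases h1 with h' | h' <;> rcases hfv v' with h'' | h'' <;>
      simp only [h, h', h'', mul_assoc, hV.zz, mul_one, true_or, or_true]
  · rintro ⟨x, hxP, hx2⟩
    obtain ⟨u, hu, huK, rfl⟩ : ∃ (u : G) (_ : u ∈ Wz S) (hK' : u ∈ K), pr K ⟨u, hK'⟩ = x := by
      by_cases hx1 : x = 1
      · exact ⟨1, one_mem _, one_mem _, by rw [hx1]; exact map_one (pr K)⟩
      obtain ⟨p, hp, e⟩ := hxP
      exact D.exists_lift hG (orderOf_eq_prime (by rw [pow_two, hx2]) hx1) (e ▸ D.map_le (D.memP.1 hp))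
    have hc : z * u = u * z := (mem_Zc.1 hu.1).2 z hV.mem.1.1
    obtain ⟨v, hv⟩ : ∃ v : ↥V, (v : G) = u ∨ (v : G) = u * z := by
      rcases hV.split u hu with h | h
      · exact ⟨⟨u, h⟩, Or.inl rfl⟩
      · exact ⟨⟨_, h⟩, Or.inr hc⟩
    refine ⟨v, Subtype.ext ?_⟩
    have : (f v : G) = u ∨ (f v : G) = u * z := by
      rcases hfv v with h | h <;> rcases hv with h' | h'
      · exact Or.inl (h ▸ h')
      · exact Or.inr (h ▸ h')
      · right; rw [← h', h, mul_assoc, hV.zz, mul_one]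
      · exact Or.inl (mul_right_cancel (h ▸ h'))
    rcases this with h | h
    · exact congrArg (pr K) (Subtype.ext h)
    · exact D.pr_eq_of_mul_z hG (f v).2 huK h

end Tower

end Cfsg.Lib.SylowRankOne
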