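import Cfsg.Agent.SylowRankOne.Component
import Cfsg.Agent.Walter.CI.Embedded
import Cfsg.Agent.S1174

/-!
The simple quotient of the component has a strongly embedded subgroup.
-/

set_option autoImplicit false
set_option linter.unusedSectionVars false
set_option linter.style.haveILetI false

namespace Cfsg.Lib.SylowRankOne

open Subgroup Cfsg.Lib.Walter.CI
open scoped Pointwise

universe u

variable {G : Type u} [Group G] [Finite G]

/-- A component with its Sylow subgroup and the embedded subgroup of its simple quotient. -/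
structure Tower (S : Sylow 2 G) (z : G) (K : Subgroup G) (P : Sylow 2 K)
    (H : Subgroup (↥K ⧸ center ↥K)) : Prop where
  big : Big S z
  comp : Cfsg.IsComponentOf K (centralizer ({z} : Set G))
  hP : (P : Subgroup K) = (S : Subgroup G).subgroupOf K
  pair : Pair H (P.mapSurjective (QuotientGroup.mk'_surjective (center ↥K)))
  mem : ∀ y : K, QuotientGroup.mk' (center ↥K) y ∈ H ↔ (y : G) ∈ normalizer ((S : Subgroup G) : Set G)

variable {S : Sylow 2 G} {z : G}

theorem exists_tower (hG : Uniq G) (hne : Wz S ≠ ⊥) (hB : Big S z) :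
    ∃ (K : Subgroup G) (P : Sylow 2 K) (H : Subgroup (↥K ⧸ center ↥K)), Tower S z K P H := by
  haveI : Fact (Nat.Prime 2) := ⟨Nat.prime_two⟩
  obtain ⟨K, hK⟩ := hB.exists_component hG
  obtain ⟨P, hP⟩ := hB.sylow_component hG hK
  obtain ⟨u, hu, huK, hu1, huz⟩ := hB.exists_inner hG hK
  have hq := comp_qs hK
  haveI := hq.2
  set π := QuotientGroup.mk' (center ↥K) with hπ
  have hπs : Function.Surjective π := QuotientGroup.mk'_surjective _
  have hmemP : ∀ {x : K}, x ∈ (P : Subgroup K) ↔ (x : G) ∈ (S : Subgroup G) := fun {x} => by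
    rw [hP, mem_subgroupOf]
  -- an element of `P Z(K)` of 2-power order lies in `P`
  have htwo : ∀ {x p : K}, p ∈ (P : Subgroup K) → π x = π p → IsPGroup 2 ↥(zpowers x) →
      x ∈ (P : Subgroup K) := by
    intro x p hp e hx
    have hc : p⁻¹ * x ∈ center ↥K := QuotientGroup.eq.1 e.symm
    have hn : x ∈ normalizer ((P : Subgroup K) : Set K) := by
      rw [show x = p * (p⁻¹ * x) by group]
      exact mul_mem (le_normalizer hp) (centralizer_le_normalizer _ (mem_centralizer_iff.2 fun q _ => mem_center_iff.1 hc q))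
    exact (P.3 (hx.to_sup_of_normal_right' P.isPGroup' (zpowers_le.2 hn)) le_sup_right).le
      (mem_sup_left (mem_zpowers x))
  have hinv : ∀ {x : K}, (x : G) * x = 1 → IsPGroup 2 ↥(zpowers x) := fun {x} hx => by
    obtain ⟨i, -, hi⟩ := (Nat.dvd_prime_pow Nat.prime_two).1
      (orderOf_dvd_of_pow_eq_one (show x ^ 2 ^ 1 = 1 by rw [pow_one, pow_two]; exact Subtype.ext hx))
    exact IsPGroup.of_card (n := i) (by rw [Nat.card_zpowers, hi])
  have hzK : z ∈ centralizer (K : Set G) :=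
    mem_centralizer_iff.2 fun k hk => mem_centralizer_singleton_iff.1 (hK.1 hk)
  have hcen : ∀ {x : K}, x ∈ center ↥K → (x : G) ∈ centralizer (K : Set G) := fun {x} hx =>
    mem_centralizer_iff.2 fun k hk => congrArg Subtype.val (mem_center_iff.1 hx ⟨k, hk⟩)
  have hπu : π ⟨u, huK⟩ ≠ 1 := fun e =>
    hB.not_centralizes hG hK hu.1.1 hu.2 hu1 huz (hcen ((QuotientGroup.eq_one_iff _).1 e))
  -- normalising `P` means normalising `S`
  have hnorm : ∀ {y : K}, (∀ p ∈ (P : Subgroup K), π (y * p * y⁻¹) ∈ (P : Subgroup K).map π) →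
      (y : G) ∈ normalizer ((S : Subgroup G) : Set G) := by
    intro y hy
    obtain ⟨p, hp, e⟩ := hy ⟨u, huK⟩ (hmemP.2 hu.1.1)
    have h1 : y * ⟨u, huK⟩ * y⁻¹ ∈ (P : Subgroup K) := htwo hp e.symm (hinv (by
      show (y : G) * u * (y : G)⁻¹ * ((y : G) * u * (y : G)⁻¹) = 1
      rw [show (y : G) * u * (y : G)⁻¹ * ((y : G) * u * (y : G)⁻¹) = y * (u * u) * (y : G)⁻¹ by group, hu.2,
        mul_one, mul_inv_cancel]))
    exact mem_norm_of_conj hG hB.mem hB.ne hu.1.1 hu.2 hu1 huz (mem_centralizer_singleton_iff.1 (hK.1 y.2))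
      (hmemP.1 h1)
  -- the strongly closed subgroup
  set W : Subgroup K := (Wz S).subgroupOf K with hW
  have hWP : W ≤ (P : Subgroup K) := fun x hx => hmemP.2 (hx : (x : G) ∈ Wz S).1.1
  set T := W.map π with hT
  set Pb := P.mapSurjective hπs with hPb
  have hsc : Cfsg.IsStronglyClosed T (Pb : Subgroup (↥K ⧸ center ↥K)) := by
    refine ⟨map_mono hWP, ?_⟩
    rintro _ ⟨x, hx, rfl⟩ gb hg
    obtain ⟨g, rfl⟩ := hπs gb
    obtain ⟨p, hp, e⟩ := hg
    rw [← map_inv, ← map_mul, ← map_mul] at e ⊢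
    have hx' : (x : G) ∈ Wz S := hx
    have h1 : g * x * g⁻¹ ∈ (P : Subgroup K) := htwo hp e.symm (hinv (by
      show (g : G) * x * (g : G)⁻¹ * ((g : G) * x * (g : G)⁻¹) = 1
      rw [show (g : G) * x * (g : G)⁻¹ * ((g : G) * x * (g : G)⁻¹) = g * (x * x) * (g : G)⁻¹ by group, hx'.2,
        mul_one, mul_inv_cancel]))
    exact mem_map_of_mem π (show g * x * g⁻¹ ∈ W from mem_Wz_conj hG hne hx' (hmemP.1 h1))
  have hT1 : T ≠ ⊥ := fun e => hπu ((eq_bot_iff_forall _).1 e _ (mem_map_of_mem π (show (⟨u, huK⟩ : K) ∈ W from hu)))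
  -- the centralisers of its involutions
  have hprop : (⨆ t : {t : ↥K ⧸ center ↥K // t ∈ T ∧ orderOf t = 2},
      centralizer ({(t : ↥K ⧸ center ↥K)} : Set (↥K ⧸ center ↥K))) ≠ ⊤ := by
    set N : Subgroup K := (normalizer ((S : Subgroup G) : Set G)).subgroupOf K with hN
    intro htop
    have hle : (⊤ : Subgroup (↥K ⧸ center ↥K)) ≤ N.map π := by
      rw [← htop]
      refine iSup_le fun t => ?_
      intro yb hy
      obtain ⟨y, rfl⟩ := hπs yb
      obtain ⟨t, ⟨x, hx, rfl⟩, ho⟩ := t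
      have hx' : (x : G) ∈ Wz S := hx
      have e : π (y * x * y⁻¹) = π x := by
        rw [map_mul, map_mul, mem_centralizer_singleton_iff.1 hy, map_inv, mul_inv_cancel_right]
      have h1 : y * x * y⁻¹ ∈ (P : Subgroup K) := htwo (hWP hx) e (hinv (by
        show (y : G) * x * (y : G)⁻¹ * ((y : G) * x * (y : G)⁻¹) = 1
        rw [show (y : G) * x * (y : G)⁻¹ * ((y : G) * x * (y : G)⁻¹) = y * (x * x) * (y : G)⁻¹ by group,
          hx'.2, mul_one, mul_inv_cancel]))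
      have hx0 : π x ≠ 1 := fun h => by rw [h, orderOf_one] at ho; exact absurd ho (by norm_num)
      refine mem_map_of_mem π (show y ∈ N from mem_norm_of_conj hG hB.mem hB.ne hx'.1.1 hx'.2 ?_ ?_
        (mem_centralizer_singleton_iff.1 (hK.1 y.2)) (hmemP.1 h1))
      · exact fun h => hx0 (by rw [show x = 1 from Subtype.ext h, map_one])
      · exact fun h => hx0 ((QuotientGroup.eq_one_iff _).2 (mem_center_iff.2 fun k => Subtype.ext
          (by show (k : G) * x = x * k; rw [h]; exact mem_centralizer_iff.1 hzK k k.2)))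
    refine comp_not_solvable hK (solvable_of_normal_sylow P ⟨fun p hp y => hmemP.2 ?_⟩)
    obtain ⟨n, hn, e⟩ := hle (mem_top (π y))
    obtain ⟨c, hc, rfl⟩ : ∃ c, c ∈ center ↥K ∧ y = n * c :=
      ⟨n⁻¹ * y, QuotientGroup.eq.1 e, (mul_inv_cancel_left n y).symm⟩
    rw [show n * c * p * (n * c)⁻¹ = n * p * n⁻¹ by
      rw [mul_assoc n c p, ← mem_center_iff.1 hc p]; group]
    exact (mem_normalizer_iff.1 hn (p : G)).1 (hmemP.1 hp)
  obtain ⟨H, hH⟩ := exists_pair (Cfsg.Lib.CpQuot.not_commutative hq)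
    (Cfsg.Agent.S1174.result Pb T hT1 hsc hprop) Pb
  refine ⟨K, P, H, hB, hK, hP, hH, fun y => ⟨fun hy => hnorm fun p hp => ?_, fun hy => ?_⟩⟩
  · rw [← hH.norm] at hy
    rw [map_mul, map_mul, map_inv]
    exact (mem_normalizer_iff.1 hy (π p)).1 (mem_map_of_mem π hp)
  · rw [← hH.norm]
    refine mem_normalizer_fintype fun x hx => ?_
    obtain ⟨p, hp, rfl⟩ := hx
    exact ⟨y * p * y⁻¹, hmemP.2 ((mem_normalizer_iff.1 hy (p : G)).1 (hmemP.1 hp)),
      by rw [map_mul, map_mul, map_inv]⟩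

namespace Tower

/-- the map to the simple quotient -/
abbrev pr (K : Subgroup G) : ↥K →* ↥K ⧸ center ↥K := QuotientGroup.mk' (center ↥K)

variable {K : Subgroup G} {P : Sylow 2 K} {H : Subgroup (↥K ⧸ center ↥K)} (D : Tower S z K P H)
include D

theorem simple : IsSimpleGroup (↥K ⧸ center ↥K) := (comp_qs D.comp).2

theorem nonab : ¬ IsMulCommutative (↥K ⧸ center ↥K) := Cfsg.Lib.CpQuot.not_commutative (comp_qs D.comp)

theorem memP {x : K} : x ∈ (P : Subgroup K) ↔ (x : G) ∈ (S : Subgroup G) := by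
  rw [D.hP, mem_subgroupOf]

theorem map_le {x : K} (hx : (x : G) ∈ (S : Subgroup G)) : (pr K) x ∈ H :=
  (D.mem x).2 (le_normalizer hx)

theorem z_centralizer : z ∈ centralizer (K : Set G) :=
  mem_centralizer_iff.2 fun _ hk => mem_centralizer_singleton_iff.1 (D.comp.1 hk)

theorem commute_z {x : K} : (x : G) * z = z * x := mem_centralizer_iff.1 D.z_centralizer x x.2

theorem center_le {x : K} (hx : x ∈ center ↥K) : (x : G) ∈ centralizer (K : Set G) :=
  mem_centralizer_iff.2 fun k hk => congrArg Subtype.val (mem_center_iff.1 hx ⟨k, hk⟩)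

/-- central involutions of `K` inside the centre of `K` -/
theorem eq_of_center (hG : Uniq G) {x : K} (hx : (pr K) x = 1) (hxS : (x : G) ∈ (S : Subgroup G))
    (hx2 : (x : G) * x = 1) : (x : G) = 1 ∨ (x : G) = z := by
  by_contra h
  push Not at h
  exact D.big.not_centralizes hG D.comp hxS hx2 h.1 h.2 (D.center_le ((QuotientGroup.eq_one_iff x).1 hx))

theorem orderOf_map (hG : Uniq G) {u : G} (hu : u ∈ Wz S) (huK : u ∈ K) (hu1 : u ≠ 1) (huz : u ≠ z) :
    orderOf ((pr K) ⟨u, huK⟩) = 2 := by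
  haveI : Fact (Nat.Prime 2) := ⟨Nat.prime_two⟩
  refine orderOf_eq_prime ?_ fun e => ?_
  · rw [← map_pow]
    exact congrArg (pr K) (Subtype.ext (show u ^ 2 = ((1 : K) : G) by rw [pow_two]; exact hu.2)) |>.trans (map_one (pr K))
  · rcases D.eq_of_center hG (x := ⟨u, huK⟩) e hu.1.1 hu.2 with h | h
    exacts [hu1 h, huz h]

/-- the involutions of `H` come from central involutions of `S` -/
theorem exists_lift (hG : Uniq G) {i : ↥K ⧸ center ↥K} (hi : orderOf i = 2) (hiH : i ∈ H) :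
    ∃ (u : G) (_ : u ∈ Wz S) (huK : u ∈ K), (pr K) ⟨u, huK⟩ = i := by
  haveI := D.simple
  obtain ⟨u, hu, huK, hu1, huz⟩ := D.big.exists_inner hG D.comp
  have ho := D.orderOf_map hG hu huK hu1 huz
  obtain ⟨h, hh, e⟩ := D.pair.fuse _ (D.pair.qinvol _ ho (D.map_le (x := ⟨u, huK⟩) hu.1.1)).1 i
    (D.pair.qinvol i hi hiH).1 ho hi
  obtain ⟨y, rfl⟩ := QuotientGroup.mk'_surjective (center ↥K) h
  refine ⟨y * u * (y : G)⁻¹, Wz_conj S ((D.mem y).1 hh) hu, mul_mem (mul_mem y.2 huK) (inv_mem y.2), ?_⟩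
  rw [← map_inv, ← map_mul, ← map_mul] at e
  exact e

variable {g₀ : K} (hg₀ : (pr K) g₀ ∉ H)
include hg₀

/-- every coset of `S ∩ K` meets the two-point stabiliser -/
theorem exists_stab (hG : Uniq G) {s : G} (hs : s ∈ (S : Subgroup G)) :
    ∃ u ∈ (S : Subgroup G), u ∈ K ∧ (g₀ : G)⁻¹ * (s * u) * g₀ ∈ (S : Subgroup G) := by
  haveI := D.simple
  haveI : Fact (Nat.Prime 2) := ⟨Nat.prime_two⟩
  have hsC := D.big.sylow_le (inv_mem hs)
  have hsK := D.big.centralizer_le_normalizer_component hG D.comp hsC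
  set g₁ : K := ⟨s⁻¹ * g₀ * s⁻¹⁻¹, (mem_normalizer_iff.1 hsK (g₀ : G)).1 g₀.2⟩ with hg₁
  have hn₀ : (g₀ : G) ∉ normalizer ((S : Subgroup G) : Set G) := fun h => hg₀ ((D.mem g₀).2 h)
  have hsN : s ∈ normalizer ((S : Subgroup G) : Set G) := le_normalizer hs
  have hg₁H : (pr K) g₁ ∉ H := fun h => hn₀ (by
    have h1 := mul_mem (mul_mem hsN ((D.mem g₁).1 h)) (inv_mem hsN)
    rwa [show s * (g₁ : G) * s⁻¹ = g₀ by show s * (s⁻¹ * g₀ * s⁻¹⁻¹) * s⁻¹ = g₀; group] at h1)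
  obtain ⟨ub, hub, hmem⟩ := D.pair.trans ((pr K) g₀) ((pr K) g₁) hg₀ hg₁H
  obtain ⟨u, hu, rfl⟩ := hub
  rw [← map_inv, ← map_mul, ← map_mul] at hmem
  replace hmem := mul_mem hsN ((D.mem _).1 hmem)
  have huS := D.memP.1 hu
  have hN : (g₀ : G)⁻¹ * (s * u) * g₀ ∈ normalizer ((S : Subgroup G) : Set G) := by
    convert hmem using 1
    show _ = s * ((s⁻¹ * g₀ * s⁻¹⁻¹)⁻¹ * (u * g₀))
    group
  have hp : IsPGroup 2 ↥(zpowers ((g₀ : G)⁻¹ * (s * u) * g₀)) := by
    obtain ⟨k, hk⟩ := S.2.exists_orderOf_eq_pow ⟨s * u, mul_mem hs huS⟩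
    rw [Subgroup.orderOf_mk] at hk
    refine IsPGroup.of_card (n := k) ?_
    rw [Nat.card_zpowers, ← hk]
    have := Cfsg.Lib.Isolated.orderOf_conj' (g₀ : G)⁻¹ (s * u)
    rwa [inv_inv] at this
  exact ⟨u, huS, u.2, (S.3 (hp.to_sup_of_normal_right' S.isPGroup' (zpowers_le.2 hN)) le_sup_right).le
    (mem_sup_left (mem_zpowers _))⟩

/-- `z` is the only involution of the two-point stabiliser -/
theorem stab_involution (hG : Uniq G) {d : G} (hd : d ∈ (S : Subgroup G))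
    (hdg : (g₀ : G)⁻¹ * d * g₀ ∈ (S : Subgroup G)) (hd2 : d * d = 1) : d = 1 ∨ d = z := by
  by_contra h
  push Not at h
  refine hg₀ ((D.mem g₀).2 ?_)
  have := mem_norm_of_conj hG D.big.mem D.big.ne hd hd2 h.1 h.2 (g := (g₀ : G)⁻¹)
    ((show Commute (g₀ : G) z from D.commute_z).inv_left.eq) (by rwa [inv_inv])
  simpa using inv_mem this

/-- the two-point stabiliser meets `K` in its centre -/
theorem stab_center {d : K} (hd : (d : G) ∈ (S : Subgroup G))
    (hdg : (g₀ : G)⁻¹ * d * g₀ ∈ (S : Subgroup G)) : (pr K) d = 1 := by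
  haveI : Fact (Nat.Prime 2) := ⟨Nat.prime_two⟩
  haveI := D.simple
  have hodd := D.pair.se.2.2 ((pr K) g₀) hg₀
  set I := H ⊓ H.map (MulAut.conj ((pr K) g₀)).toMonoidHom with hI
  have hdI : (pr K) d ∈ I := by
    refine mem_inf.2 ⟨D.map_le hd, (pr K) (g₀⁻¹ * d * g₀), D.map_le hdg, ?_⟩
    show (pr K) g₀ * (pr K) (g₀⁻¹ * d * g₀) * ((pr K) g₀)⁻¹ = (pr K) d
    rw [map_mul, map_mul, map_inv]; group
  obtain ⟨k, hk⟩ := S.2.exists_orderOf_eq_pow ⟨d, hd⟩
  rw [Subgroup.orderOf_mk] at hk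
  have h1 : orderOf ((pr K) d) ∣ 2 ^ k := (orderOf_map_dvd _ d).trans (dvd_of_eq (by rw [← hk, orderOf_coe]))
  have h2 : orderOf ((pr K) d) ∣ Nat.card I := orderOf_dvd_natCard _ hdI
  have hcop : (2 ^ k).Coprime (Nat.card I) := (Nat.coprime_two_left.2 hodd).pow_left k
  exact orderOf_eq_one_iff.1 (Nat.eq_one_of_dvd_coprimes hcop h1 h2)

omit hg₀ in
theorem exists_moving : ∃ g₀ : K, (pr K) g₀ ∉ H := by
  haveI := D.simple
  obtain ⟨gb, hgb⟩ : ∃ gb, gb ∉ H := by
    by_contra h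
    push Not at h
    exact D.pair.se.1 ((eq_top_iff' H).2 h)
  obtain ⟨g, rfl⟩ := QuotientGroup.mk'_surjective (center ↥K) gb
  exact ⟨g, hgb⟩

omit hg₀ in
/-- the central involutions lie in `(Wz ∩ K)⟨z⟩` -/
theorem split (hG : Uniq G) {w : G} (hw : w ∈ Wz S) : ∃ u ∈ Wz S, u ∈ K ∧ (w = u ∨ w = u * z) := by
  haveI : Fact (Nat.Prime 2) := ⟨Nat.prime_two⟩
  obtain ⟨g₀, hg₀⟩ := D.exists_moving
  obtain ⟨u', hu', hu'K, hd⟩ := D.exists_stab hg₀ hG hw.1.1
  set v : K := ⟨u', hu'K⟩ with hv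
  have hwu : Commute u' w := (mem_Zc.1 hw.1).2 u' hu'
  have hsq : (v * v : K) = ⟨w * u' * (w * u'), by
      rw [show w * u' * (w * u') = w * (u' * w) * u' by group, hwu.eq,
        show w * (w * u') * u' = w * w * (u' * u') by group, hw.2, one_mul]
      exact mul_mem hu'K hu'K⟩ := Subtype.ext (by
    show u' * u' = w * u' * (w * u')
    rw [show w * u' * (w * u') = w * (u' * w) * u' by group, hwu.eq,
      show w * (w * u') * u' = w * w * (u' * u') by group, hw.2, one_mul])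
  have hdd : (g₀ : G)⁻¹ * (u' * u') * g₀ ∈ (S : Subgroup G) := by
    have := mul_mem hd hd
    rw [show u' * u' = w * u' * (w * u') from congrArg Subtype.val hsq]
    rwa [show (g₀ : G)⁻¹ * (w * u') * g₀ * ((g₀ : G)⁻¹ * (w * u') * g₀) =
      (g₀ : G)⁻¹ * (w * u' * (w * u')) * g₀ by group] at this
  have hπv : (pr K) v ^ 2 = 1 := by
    rw [← map_pow, pow_two]
    exact D.stab_center hg₀ (d := v * v) (mul_mem hu' hu') hdd
  obtain ⟨u₁, hu₁, hu₁K, e⟩ : ∃ (u₁ : G) (_ : u₁ ∈ Wz S) (hK' : u₁ ∈ K), (pr K) ⟨u₁, hK'⟩ = (pr K) v := by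
    by_cases h1 : (pr K) v = 1
    · exact ⟨1, one_mem _, one_mem _, by rw [h1]; exact map_one (pr K)⟩
    · exact D.exists_lift hG (orderOf_eq_prime hπv h1) (D.map_le hu')
  have hc : (⟨u₁, hu₁K⟩ : K)⁻¹ * v ∈ center ↥K := QuotientGroup.eq.1 e
  set c : G := u₁⁻¹ * u' with hcdef
  have hcg : Commute (g₀ : G) c := congrArg Subtype.val (mem_center_iff.1 hc g₀)
  have hcS : c ∈ (S : Subgroup G) := mul_mem (inv_mem hu₁.1.1) hu'
  have hwu₁ : w * u' * c⁻¹ = w * u₁ := by rw [hcdef]; group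
  have h2 : (g₀ : G)⁻¹ * (w * u₁) * g₀ ∈ (S : Subgroup G) := by
    have := mul_mem hd (inv_mem hcS)
    rw [← hwu₁]
    convert this using 1
    calc (g₀ : G)⁻¹ * (w * u' * c⁻¹) * g₀ = (g₀ : G)⁻¹ * (w * u') * (c⁻¹ * g₀) := by group
      _ = _ := by rw [(hcg.inv_right).eq.symm]; group
  refine ⟨u₁, hu₁, hu₁K, ?_⟩
  have hm : w * u₁ * (w * u₁) = 1 := (mul_mem hw hu₁ : w * u₁ ∈ Wz S).2
  rcases D.stab_involution hg₀ hG (mul_mem hw.1.1 hu₁.1.1) h2 hm with h | h
  · left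
    rw [eq_inv_of_mul_eq_one_left h]
    exact inv_eq_of_mul_eq_one_right hu₁.2
  · right
    rw [← h, show u₁ * (w * u₁) = u₁ * w * u₁ by group, (mem_Zc.1 hw.1).2 u₁ hu₁.1.1,
      mul_assoc, hu₁.2, mul_one]

end Tower

end Cfsg.Lib.SylowRankOne
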