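import Cfsg.Agent.BenderSuzuki.U3.InputOf
import Cfsg.Agent.BenderSuzuki.SzKern
import Cfsg.Agent.BenderSuzuki.RootGroup
import Cfsg.Agent.SuzukiTwo.ClassTwo

/-!
A 2-power automorphism of a rank one group in characteristic two which fixes the involutions of the root group
and the two-point stabiliser fixes the root group.
-/

set_option autoImplicit false
set_option linter.unusedSectionVars false
set_option linter.style.haveILetI false

namespace Cfsg.Lib.SylowRankOne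

open Subgroup MulAction Cfsg.Lib.RankOne Cfsg.Lib.BenderSuzuki

universe u v

variable {G : Type u} {Ω : Type v} [Group G] [Finite G] [MulAction G Ω] {a : Ω} {t : G} {Q : Subgroup G}

/-- The hypotheses on the automorphism. -/
structure Fixes (Ω : Type v) [MulAction G Ω] (a : Ω) (t : G) (Q : Subgroup G) (α : MulAut G) : Prop where
  mem : ∀ x ∈ Q, α x ∈ Q
  invol : ∀ z ∈ invl G a, α z = z
  stab : ∀ d ∈ twoStab Ω a t, α d = d
  two : ∃ j, α ^ 2 ^ j = 1

theorem Fixes.suzuki (hs : Simple G Ω a t Q) (hn : Nat.card Q = qNum G a ^ 2) (hna : NonAb Q) {α : MulAut G}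
    (hα : Fixes Ω a t Q α) : ∀ x ∈ Q, α x = x := by
  obtain ⟨E, hE, hle, C, hcard⟩ := exists_szKern hs hn hna
  let Z : Subgroup G := zGroup hs
  have hZQ : Z ≤ Q := zGroup_le hs
  have hZmem : ∀ {x}, x ∈ Q → (x ∈ Z ↔ x * x = 1) := fun {x} hx => by
    refine ⟨fun h => ?_, fun h => mem_zGroup_of_sq hs hx h⟩
    rcases (mem_zGroup hs).1 h with rfl | h
    · exact one_mul 1
    · exact h.2.2
  have hZcomm : ∀ {z}, z ∈ Z → ∀ {x}, x ∈ Q → z * x = x * z := fun hz _ hx => zGroup_comm hs hz hx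
  have hsq : ∀ x ∈ Q, x * x ∈ Z := by
    intro x hx
    letI := C.autCommGroup
    have h := Cfsg.Lib.SuzukiTwo.sq_mem_center C.p2 C.involTrans C.nab C.two ⟨x, hx⟩
    exact (hZmem (mul_mem hx hx)).2 (congrArg Subtype.val ((C.center_iff _).1 h))
  have hfixZ : ∀ z ∈ Z, α z = z := fun z hz => by
    rcases (mem_zGroup hs).1 hz with rfl | h
    · exact map_one _
    · exact hα.invol z h
  have hZn : ∀ k ∈ E, ∀ z ∈ Z, k * z * k⁻¹ ∈ Z := fun k hk z hz =>
    zGroup_conj hs hz (Subgroup.mem_inf.1 (hle hk)).1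
  -- no element of `E` fixes a coset
  have hfree : ∀ k ∈ E, k ≠ 1 → ∀ x ∈ Q, x⁻¹ * (k * x * k⁻¹) ∈ Z → x ∈ Z := by
    intro k hk hk1 x hx hfx
    let φ : Z → Z := fun y => ⟨(y : G) * (k * y * k⁻¹)⁻¹, mul_mem y.2 (inv_mem (hZn k hk y y.2))⟩
    have hφ : Function.Injective φ := by
      intro b c e
      have e' : (b : G) * (k * b * k⁻¹)⁻¹ = c * (k * c * k⁻¹)⁻¹ := congrArg Subtype.val e
      have h1 : k * ((c : G)⁻¹ * b) * k⁻¹ = (c : G)⁻¹ * b := by
        calc k * ((c : G)⁻¹ * b) * k⁻¹ = (c : G)⁻¹ * (c * (k * c * k⁻¹)⁻¹) * (k * b * k⁻¹) := by group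
          _ = _ := by rw [← e']; group
      exact (Subtype.ext (inv_mul_eq_one.1
        (C.fpf k hk hk1 _ (mul_mem (inv_mem (hZQ c.2)) (hZQ b.2)) h1)) : c = b).symm
    obtain ⟨b, hb⟩ := Finite.surjective_of_injective hφ ⟨_, hfx⟩
    have hb' : (b : G) * (k * b * k⁻¹)⁻¹ = x⁻¹ * (k * x * k⁻¹) := congrArg Subtype.val hb
    have h1 := C.fpf k hk hk1 (x * b) (mul_mem hx (hZQ b.2)) (by
      rw [show k * (x * b) * k⁻¹ = x * (x⁻¹ * (k * x * k⁻¹)) * (k * b * k⁻¹) by group, ← hb']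
      group)
    rw [eq_inv_of_mul_eq_one_left h1]
    exact inv_mem b.2
  have hZcard : Nat.card Z = Nat.card E + 1 := (card_zGroup hs).trans hcard.symm
  -- `E` is transitive on the nontrivial cosets
  have htrans : ∀ x ∈ Q, x ∉ Z → ∀ y ∈ Q, y ∉ Z → ∃ k ∈ E, ∃ w ∈ Z, y = k * x * k⁻¹ * w := by
    intro x hx hxZ
    let F : E × Z → {y : Q // (y : G) ∉ Z} := fun p =>
      ⟨⟨(p.1 : G) * x * (p.1 : G)⁻¹ * p.2, mul_mem (C.normal _ p.1.2 x hx) (hZQ p.2.2)⟩, fun h => by
        have h2 := hZn _ (inv_mem p.1.2) _ (mul_mem h (inv_mem p.2.2))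
        simp only [mul_inv_cancel_right] at h2
        exact hxZ (by simpa [mul_assoc] using h2)⟩
    have hF : Function.Injective F := by
      rintro ⟨k, w⟩ ⟨k', w'⟩ e
      have e' : (k : G) * x * (k : G)⁻¹ * w = (k' : G) * x * (k' : G)⁻¹ * w' :=
        congrArg (fun y : {y : Q // (y : G) ∉ Z} => ((y : Q) : G)) e
      have hkk : k = k' := by
        by_contra hne
        refine hxZ (hfree ((k' : G)⁻¹ * k) (mul_mem (inv_mem k'.2) k.2)
          (fun h => hne (Subtype.ext (inv_mul_eq_one.1 h).symm)) x hx ?_)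
        have h1 : x⁻¹ * ((k' : G)⁻¹ * k * x * ((k' : G)⁻¹ * k)⁻¹) =
            (k' : G)⁻¹ * ((w' : G) * (w : G)⁻¹) * (k' : G)⁻¹⁻¹ := by
          calc x⁻¹ * ((k' : G)⁻¹ * k * x * ((k' : G)⁻¹ * k)⁻¹)
              = x⁻¹ * (k' : G)⁻¹ * ((k : G) * x * (k : G)⁻¹ * w) * (w : G)⁻¹ * k' := by group
            _ = _ := by rw [e']; group
        rw [h1]
        exact hZn _ (inv_mem k'.2) _ (mul_mem w'.2 (inv_mem w.2))
      subst hkk
      rw [mul_right_inj] at e'
      exact Prod.ext rfl (Subtype.ext e')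
    haveI : Fintype Q := Fintype.ofFinite Q
    classical
    have hc : Nat.card (E × Z) = Nat.card {y : Q // (y : G) ∉ Z} := by
      have h1 : Nat.card {y : Q // (y : G) ∈ Z} = Nat.card Z := Nat.card_congr
        { toFun := fun y => ⟨((y : Q) : G), y.2⟩, invFun := fun z => ⟨⟨z, hZQ z.2⟩, z.2⟩
          left_inv := fun _ => rfl, right_inv := fun _ => rfl }
      have h2 := Fintype.card_subtype_compl fun y : Q => (y : G) ∈ Z
      simp only [← Nat.card_eq_fintype_card] at h2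
      rw [h1, C.card_sq, hZcard] at h2
      rw [h2, Nat.card_prod, hZcard, pow_two, ← Nat.sub_one_mul]
      simp
    intro y hy hyZ
    obtain ⟨⟨k, w⟩, he⟩ := (hF.bijective_of_nat_card_le hc.ge).2 ⟨⟨y, hy⟩, hyZ⟩
    exact ⟨k, k.2, w, w.2, (congrArg (fun y : {y : Q // (y : G) ∉ Z} => ((y : Q) : G)) he).symm⟩
  -- every element is moved inside its coset
  have hcoset : ∀ x ∈ Q, x⁻¹ * α x ∈ Z := by
    intro x hx
    by_cases hxZ : x ∈ Z
    · rw [hfixZ x hxZ, inv_mul_cancel]; exact one_mem _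
    have hαx : α x ∉ Z := fun h => hxZ ((hZmem hx).2 (α.injective (by
      rw [map_mul, map_one]; exact (hZmem (hα.mem x hx)).1 h)))
    obtain ⟨k, hk, w, hw, e⟩ := htrans x hx hxZ _ (hα.mem x hx) hαx
    have hsq' : k * (x * x) * k⁻¹ = x * x := by
      conv_rhs => rw [← hfixZ _ (hsq x hx), map_mul, e]
      rw [show k * x * k⁻¹ * w * (k * x * k⁻¹ * w) = k * x * k⁻¹ * (w * (k * x * k⁻¹)) * w by group,
        hZcomm hw (C.normal k hk x hx)]
      calc k * (x * x) * k⁻¹ = k * x * k⁻¹ * (k * x * k⁻¹) * (w * w) := by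
            rw [(hZmem (hZQ hw)).1 hw]; group
        _ = _ := by group
    have hk1 : k = 1 := by
      by_contra hk1
      exact hxZ ((hZmem hx).2 (C.fpf k hk hk1 _ (mul_mem hx hx) hsq'))
    rw [e, hk1]
    simpa using hw
  -- the map is trivial
  intro x₀ hx₀
  by_contra hne
  set χ : G → G := fun x => x⁻¹ * α x with hχ
  have hw : χ x₀ ∈ invl G a := by
    rcases (mem_zGroup hs).1 (hcoset x₀ hx₀) with h | h
    · exact absurd (inv_mul_eq_one.1 h).symm hne
    · exact h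
  have hx₀Z : x₀ ∉ Z := fun h => hne (hfixZ x₀ h)
  have hx₀2 : x₀ * x₀ ∈ invl G a := by
    rcases (mem_zGroup hs).1 (hsq x₀ hx₀) with h | h
    · exact absurd ((hZmem hx₀).2 h) hx₀Z
    · exact h
  obtain ⟨k₀', hk₀', hk₀⟩ := conj_surj hs.setup hw hx₀2
  set k₀ := k₀'⁻¹ with hk₀e
  have hk₀E : k₀ ∈ E := inv_mem ((Set.ext_iff.1 hE k₀').2 hk₀')
  replace hk₀ : x₀ * x₀ = k₀ * χ x₀ * k₀⁻¹ := by rw [hk₀e, inv_inv]; exact hk₀.symm
  have hsqχ : ∀ x ∈ Q, x * x = k₀ * χ x * k₀⁻¹ := by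
    intro x hx
    by_cases hxZ : x ∈ Z
    · rw [(hZmem hx).1 hxZ, hχ]; simp [hfixZ x hxZ]
    obtain ⟨k, hk, w, hw', rfl⟩ := htrans x₀ hx₀ hx₀Z x hx hxZ
    have h1 : χ (k * x₀ * k⁻¹ * w) = k * χ x₀ * k⁻¹ := by
      simp only [hχ, map_mul, map_inv, hα.stab k (hle hk), hfixZ w hw']
      calc (k * x₀ * k⁻¹ * w)⁻¹ * (k * α x₀ * k⁻¹ * w) = w⁻¹ * ((k * χ x₀ * k⁻¹) * w) := by
            rw [hχ]; group
        _ = _ := by
          rw [← hZcomm hw' (C.normal k hk _ (hZQ (hcoset x₀ hx₀))), inv_mul_cancel_left]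
    rw [h1, show k * x₀ * k⁻¹ * w * (k * x₀ * k⁻¹ * w) = k * x₀ * k⁻¹ * (w * (k * x₀ * k⁻¹)) * w by group,
      hZcomm hw' (C.normal k hk x₀ hx₀)]
    calc k * x₀ * k⁻¹ * (k * x₀ * k⁻¹ * w) * w = k * (x₀ * x₀) * k⁻¹ * (w * w) := by group
      _ = k * (k₀ * χ x₀ * k₀⁻¹) * k⁻¹ := by rw [(hZmem (hZQ hw')).1 hw', mul_one, hk₀]
      _ = (k * k₀) * χ x₀ * (k * k₀)⁻¹ := by group
      _ = _ := by rw [C.comm k hk k₀ hk₀E]; group
  obtain ⟨u, v, huv⟩ := C.nab
  refine huv (Subtype.ext ?_)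
  have h1 := hsqχ _ (mul_mem u.2 v.2)
  have h2 : χ ((u : G) * v) = χ u * χ v := by
    have hu := hcoset (u : G) u.2
    calc χ ((u : G) * v) = (v : G)⁻¹ * χ u * α v := by simp only [hχ, map_mul]; group
      _ = χ u * ((v : G)⁻¹ * α v) := by
        rw [← hZcomm hu (inv_mem v.2), mul_assoc]
  rw [h2, show k₀ * (χ u * χ v) * k₀⁻¹ = k₀ * χ u * k₀⁻¹ * (k₀ * χ v * k₀⁻¹) by group, ← hsqχ u u.2,
    ← hsqχ v v.2] at h1
  simp only [mul_assoc, mul_right_inj] at h1
  show (u : G) * v = v * u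
  rw [← mul_assoc, ← mul_assoc] at h1
  exact (mul_right_cancel h1).symm

theorem Fixes.unitary (I : U3.Input Ω a t Q) (hnd : Nondeg a Q) {α : MulAut G} (hα : Fixes Ω a t Q α) :
    ∀ x ∈ Q, α x = x := by
  have hfixZ : ∀ (β : MulAut G), Fixes Ω a t Q β → ∀ z ∈ I.Z, β z = z := fun β hβ z hz => by
    rcases hz with rfl | h
    · exact map_one _
    · exact hβ.invol z h
  have key : ∀ β : MulAut G, Fixes Ω a t Q β → (∀ x ∈ Q, β (β x) = x) → ∀ x ∈ Q, β x = x := by
    intro β hβ hinv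
    have hZ := hfixZ β hβ
    let A : Subgroup G :=
      { carrier := {x | x ∈ Q ∧ x⁻¹ * β x ∈ I.Z}
        one_mem' := ⟨one_mem _, by simp [one_mem]⟩
        mul_mem' := by
          rintro x y ⟨hx, hxz⟩ ⟨hy, hyz⟩
          refine ⟨mul_mem hx hy, ?_⟩
          rw [show (x * y)⁻¹ * β (x * y) = y⁻¹ * ((x⁻¹ * β x) * β y) by rw [map_mul]; group,
            I.Z_comm hxz (hβ.mem y hy), ← mul_assoc]
          exact mul_mem hyz hxz
        inv_mem' := by
          rintro x ⟨hx, hxz⟩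
          refine ⟨inv_mem hx, ?_⟩
          rw [show x⁻¹⁻¹ * β x⁻¹ = x * (x⁻¹ * β x)⁻¹ * x⁻¹ by rw [map_inv]; group,
            ← I.Z_comm (inv_mem hxz) hx, mul_inv_cancel_right]
          exact inv_mem hxz }
    have hZA : ∀ z ∈ I.Z, z ∈ A := fun z hz => ⟨I.Z_le hz, by rw [hZ z hz, inv_mul_cancel]; exact one_mem _⟩
    -- `A` is everything
    have hall : ∀ x ∈ Q, x ∈ A := by
      by_contra! hne
      obtain ⟨x, hx, hxA⟩ := hne
      set m := x⁻¹ * β x with hm
      have hmQ : m ∈ Q := mul_mem (inv_mem hx) (hβ.mem x hx)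
      have hβm : β m = m⁻¹ := by rw [hm, map_mul, map_inv, hinv x hx]; group
      have hmZ : m ∉ I.Z := fun h => hxA ⟨hx, h⟩
      have hmA : m ∈ A := ⟨hmQ, by rw [hβm, ← mul_inv_rev]; exact inv_mem (I.sq_mem hmQ)⟩
      have hcm : ∀ b ∈ A, b * m = m * b := by
        rintro b ⟨hb, hbz⟩
        have hc := I.comm_mem hb hx
        have h1 := hZ _ hc
        simp only [map_mul, map_inv] at h1
        set zb := b⁻¹ * β b with hzb
        rw [show β b = b * zb by rw [hzb]; group, show β x = x * m by rw [hm]; group] at h1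
        have hz' : zb * (x * m) = x * m * zb := I.Z_comm hbz (mul_mem hx hmQ)
        have h2 : b * (x * m) * b⁻¹ * (x * m)⁻¹ = b * x * b⁻¹ * x⁻¹ := by
          rw [← h1]
          calc b * (x * m) * b⁻¹ * (x * m)⁻¹ = b * (x * m * zb) * zb⁻¹ * b⁻¹ * (x * m)⁻¹ := by group
            _ = _ := by rw [← hz']; group
        have h3 : b * m * b⁻¹ * m⁻¹ = 1 := by
          have hc' := I.comm_mem hb hmQ
          have h4 : b * (x * m) * b⁻¹ * (x * m)⁻¹ = b * x * b⁻¹ * x⁻¹ * (b * m * b⁻¹ * m⁻¹) := by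
            calc b * (x * m) * b⁻¹ * (x * m)⁻¹ = b * x * b⁻¹ * ((b * m * b⁻¹ * m⁻¹) * x⁻¹) := by group
              _ = _ := by rw [I.Z_comm hc' (inv_mem hx)]; group
          rw [h4] at h2
          exact left_eq_mul.1 h2.symm
        exact mul_inv_eq_iff_eq_mul.1 (mul_inv_eq_one.1 h3)
      -- the centraliser of `m` is small
      let κ : Q →* I.Z := MonoidHom.mk' (fun y => ⟨m * y * m⁻¹ * (y : G)⁻¹, I.comm_mem hmQ y.2⟩)
        fun y y' => Subtype.ext (by
          show m * ((y : G) * y') * m⁻¹ * ((y : G) * y')⁻¹ =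
            m * y * m⁻¹ * (y : G)⁻¹ * (m * y' * m⁻¹ * (y' : G)⁻¹)
          calc m * ((y : G) * y') * m⁻¹ * ((y : G) * y')⁻¹
              = m * y * m⁻¹ * ((m * y' * m⁻¹ * (y' : G)⁻¹) * (y : G)⁻¹) := by group
            _ = _ := by rw [I.Z_comm (I.comm_mem hmQ y'.2) (inv_mem y.2)]; group)
      have hκ : Function.Surjective κ := by
        rintro ⟨w, hw⟩
        rcases hw with rfl | hw
        · exact ⟨1, map_one _⟩
        · obtain ⟨y, hy, e⟩ := hnd m hmQ (fun e => hmZ (I.mem_Z.2 ⟨hmQ, e⟩)) w hw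
          exact ⟨⟨y, hy⟩, Subtype.ext e⟩
      have hq := I.q_four
      have hcardA : Nat.card A ≤ qNum G a ^ 2 := by
        have h1 := κ.ker.card_mul_index
        rw [Subgroup.index_ker, MonoidHom.range_eq_top.2 hκ, card_top, I.card_Z, I.card_Q] at h1
        have h2 : Nat.card κ.ker = qNum G a ^ 2 := Nat.eq_of_mul_eq_mul_right (show 0 < qNum G a by omega)
          (h1.trans (by ring))
        rw [← h2]
        exact Nat.card_le_card_of_injective
          (fun b : A => (⟨⟨b, b.2.1⟩, MonoidHom.mem_ker.2 (Subtype.ext (by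
            show m * b * m⁻¹ * (b : G)⁻¹ = 1
            rw [← hcm b b.2, mul_inv_cancel_right, mul_inv_cancel]))⟩ : κ.ker))
          (fun b c e => Subtype.ext (congrArg (fun y : κ.ker => ((y : Q) : G)) e))
      -- the orbit of `m` under the inverted elements and `V` is large
      have hVA : ∀ d ∈ twoStab Ω a t, ∀ b ∈ A, d * b * d⁻¹ ∈ A := fun d hd b hb => by
        refine ⟨I.setup.conj_mem d (Subgroup.mem_inf.1 hd).1 b hb.1, ?_⟩
        rw [show (d * b * d⁻¹)⁻¹ * β (d * b * d⁻¹) = d * (b⁻¹ * β b) * d⁻¹ by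
          rw [map_mul, map_mul, map_inv, hβ.stab d hd]; group]
        exact I.Z_conj (Subgroup.mem_inf.1 hd).1 hb.2
      obtain ⟨KV, hKV, -⟩ := I.exists_KV
      have hKVD : ∀ c ∈ KV, c ∈ twoStab Ω a t := fun c hc => by
        obtain ⟨k, hk, w, hw, rfl⟩ := (hKV c).1 hc
        exact mul_mem hk.1 (Subgroup.mem_inf.1 hw).1
      let F : Option KV × I.Z → A := fun p => p.1.elim ⟨p.2, hZA _ p.2.2⟩ fun c =>
        ⟨(c : G) * m * (c : G)⁻¹ * p.2, mul_mem (hVA c (hKVD c c.2) m hmA) (hZA _ p.2.2)⟩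
      have hout : ∀ (c : KV) (w : I.Z), (c : G) * m * (c : G)⁻¹ * w ∉ I.Z := fun c w h => by
        refine hmZ ?_
        have h2 := I.Z_conj (show (c : G)⁻¹ • a = a from
          inv_smul_eq_iff.2 (Subgroup.mem_inf.1 (hKVD c c.2)).1.symm) (mul_mem h (inv_mem w.2))
        rwa [mul_inv_cancel_right, inv_inv,
          show (c : G)⁻¹ * ((c : G) * m * (c : G)⁻¹) * c = m by group] at h2
      have hF : Function.Injective F := by
        rintro ⟨_ | c, w⟩ ⟨_ | c', w'⟩ e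
        · have e' : (w : G) = w' := congrArg (fun b : A => (b : G)) e
          exact Prod.ext rfl (Subtype.ext e')
        · have e' : (w : G) = (c' : G) * m * (c' : G)⁻¹ * w' := congrArg (fun b : A => (b : G)) e
          exact absurd (e' ▸ w.2) (hout c' w')
        · have e' : (c : G) * m * (c : G)⁻¹ * w = (w' : G) := congrArg (fun b : A => (b : G)) e
          exact absurd (e'.symm ▸ w'.2) (hout c w)
        · have e' : (c : G) * m * (c : G)⁻¹ * w = (c' : G) * m * (c' : G)⁻¹ * w' := congrArg Subtype.val e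
          have hcc : c = c' := by
            by_contra hne
            obtain ⟨k, hk, v, hv, he⟩ := (hKV _).1 (mul_mem (inv_mem c'.2) c.2)
            refine hmZ (I.mem_Z_of_fixed hk hv (by
              rw [← he]; exact fun h => hne (Subtype.ext (inv_mul_eq_one.1 h).symm)) hmQ ?_)
            rw [← he]
            have h1 : m⁻¹ * ((c' : G)⁻¹ * c * m * ((c' : G)⁻¹ * c)⁻¹) =
                (c' : G)⁻¹ * ((w' : G) * (w : G)⁻¹) * (c' : G)⁻¹⁻¹ := by
              calc m⁻¹ * ((c' : G)⁻¹ * c * m * ((c' : G)⁻¹ * c)⁻¹)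
                  = m⁻¹ * (c' : G)⁻¹ * ((c : G) * m * (c : G)⁻¹ * w) * (w : G)⁻¹ * c' := by group
                _ = _ := by rw [e']; group
            rw [h1]
            exact I.Z_conj (inv_smul_eq_iff.2 (Subgroup.mem_inf.1 (hKVD c' c'.2)).1.symm)
              (mul_mem w'.2 (inv_mem w.2))
          subst hcc
          rw [mul_right_inj] at e'
          exact Prod.ext rfl (Subtype.ext e')
      have h1 := (Nat.card_le_card_of_injective F hF).trans hcardA
      rw [Nat.card_prod, Finite.card_option, I.card_Z, pow_two] at h1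
      have h2 := Nat.le_of_mul_le_mul_right h1 (show 0 < qNum G a by omega)
      -- two elements of `KV` for each inverted element
      obtain ⟨⟨v, hv⟩, hv1⟩ := Subgroup.ne_bot_iff_exists_ne_one.1 I.vne
      replace hv1 : v ≠ 1 := fun e => hv1 (Subtype.ext e)
      let Φ : Bool × invK Ω a t → KV := fun p => ⟨(p.2 : G) * bif p.1 then v else 1,
        (hKV _).2 ⟨p.2, p.2.2, _, by cases p.1 <;> simp [hv, one_mem], rfl⟩⟩
      have hΦ : Function.Injective Φ := by
        rintro ⟨b, k⟩ ⟨b', k'⟩ e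
        have e' : (k : G) * (bif b then v else 1) = (k' : G) * bif b' then v else 1 := congrArg Subtype.val e
        obtain ⟨C, hC, -, -⟩ := inverted_subgroup I.setup I.two
        have hCm : ∀ x, x ∈ C ↔ x ∈ invK Ω a t := Set.ext_iff.1 hC
        have hk : (k' : G)⁻¹ * k ∈ invK Ω a t :=
          (hCm _).1 (mul_mem (inv_mem ((hCm _).2 k'.2)) ((hCm _).2 k.2))
        have hk' : (k' : G)⁻¹ * k = (bif b' then v else 1) * (bif b then v else 1)⁻¹ := by
          rw [eq_mul_inv_iff_mul_eq, mul_assoc, e', inv_mul_cancel_left]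
        have h1 : (k' : G)⁻¹ * k = 1 := I.K_inter_V hk (by
          rw [hk']
          cases b <;> cases b' <;> simp [hv, one_mem])
        have hkk : k = k' := Subtype.ext (inv_mul_eq_one.1 h1).symm
        subst hkk
        rw [mul_right_inj] at e'
        cases b <;> cases b' <;> first | rfl | (simp at e'; exact absurd e' hv1) | (simp at e'; exact absurd e'.symm hv1)
      have h3 := Nat.card_le_card_of_injective Φ hΦ
      rw [Nat.card_prod, show Nat.card Bool = 2 by simp, show Nat.card (invK Ω a t) = Nat.card (invl G a) from swap_card I.setup] at h3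
      have h4 : qNum G a = Nat.card (invl G a) + 1 := rfl
      omega
    -- the shift is a homomorphism killed by `V`
    obtain ⟨⟨v, hv⟩, hv1⟩ := Subgroup.ne_bot_iff_exists_ne_one.1 I.vne
    replace hv1 : v ≠ 1 := fun e => hv1 (Subtype.ext e)
    have hvD : v ∈ twoStab Ω a t := (Subgroup.mem_inf.1 hv).1
    have hg : ∀ y ∈ Q, β (y⁻¹ * (v * y * v⁻¹)) = y⁻¹ * (v * y * v⁻¹) := by
      intro y hy
      set w := y⁻¹ * β y with hw'
      have hwZ : w ∈ I.Z := (hall y hy).2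
      have e1 : β y = y * w := by rw [hw']; group
      have e2 : v * w = w * v := by
        rcases hwZ with h | h
        · rw [h, mul_one, one_mul]
        · exact (Subgroup.mem_centralizer_iff.1 (Subgroup.mem_inf.1 hv).2 w h).symm
      have e3 : y⁻¹ * (v * y * v⁻¹) ∈ Q :=
        mul_mem (inv_mem hy) (I.setup.conj_mem v (Subgroup.mem_inf.1 hvD).1 y hy)
      rw [map_mul, map_mul, map_mul, map_inv, map_inv, hβ.stab v hvD, e1]
      calc (y * w)⁻¹ * (v * (y * w) * v⁻¹) = w⁻¹ * (y⁻¹ * (v * y * v⁻¹)) * (v * w * v⁻¹) := by group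
        _ = w⁻¹ * ((y⁻¹ * (v * y * v⁻¹)) * w) := by rw [e2, mul_inv_cancel_right]; group
        _ = _ := by rw [← I.Z_comm hwZ e3, inv_mul_cancel_left]
    haveI hn : ((I.Z).subgroupOf Q).Normal := ⟨fun n hn g => by
      rw [Subgroup.mem_subgroupOf] at hn ⊢
      exact I.Z_conj (I.setup.le g.2) hn⟩
    let π := QuotientGroup.mk' ((I.Z).subgroupOf Q)
    have hπ : ∀ b c : Q, π b = π c ↔ (b : G)⁻¹ * c ∈ I.Z := fun b c =>
      QuotientGroup.eq.trans Subgroup.mem_subgroupOf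
    let Γ : Q →* (Q ⧸ (I.Z).subgroupOf Q) := MonoidHom.mk'
      (fun y => π ⟨(y : G)⁻¹ * (v * y * v⁻¹),
        mul_mem (inv_mem y.2) (I.setup.conj_mem v (Subgroup.mem_inf.1 hvD).1 _ y.2)⟩) fun y y' => by
      rw [← map_mul, hπ]
      set Gy := (y : G)⁻¹ * (v * y * v⁻¹) with hGy
      have hGyQ : Gy ∈ Q := mul_mem (inv_mem y.2) (I.setup.conj_mem v (Subgroup.mem_inf.1 hvD).1 _ y.2)
      show (((y : G) * y')⁻¹ * (v * ((y : G) * y') * v⁻¹))⁻¹ * (Gy * ((y' : G)⁻¹ * (v * y' * v⁻¹))) ∈ I.Z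
      rw [show (((y : G) * y')⁻¹ * (v * ((y : G) * y') * v⁻¹))⁻¹ * (Gy * ((y' : G)⁻¹ * (v * y' * v⁻¹))) =
        (v * y' * v⁻¹)⁻¹ * (Gy⁻¹ * y' * Gy⁻¹⁻¹ * (y' : G)⁻¹) * (v * y' * v⁻¹) by rw [hGy]; group]
      have hc := I.comm_mem (inv_mem hGyQ) y'.2
      have hq := I.setup.conj_mem v (Subgroup.mem_inf.1 hvD).1 _ y'.2
      rw [mul_assoc, I.Z_comm hc hq, inv_mul_cancel_left]
      exact hc
    have hker : Γ.ker = (I.Z).subgroupOf Q := by
      ext y
      rw [MonoidHom.mem_ker, Subgroup.mem_subgroupOf]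
      refine ⟨fun h => ?_, fun h => ?_⟩
      · have h1 : (y : G)⁻¹ * (v * y * v⁻¹) ∈ I.Z := Subgroup.mem_subgroupOf.1 ((QuotientGroup.eq_one_iff _).1 h)
        exact I.mem_Z_of_fixed (k := 1) ⟨one_mem _, by group⟩ hv (by rwa [one_mul]) y.2 (by rwa [one_mul])
      · refine (QuotientGroup.eq_one_iff _).2 (Subgroup.mem_subgroupOf.2 ?_)
        exact mul_mem (inv_mem h) (I.Z_conj (Subgroup.mem_inf.1 hvD).1 h)
    have hsurj : Function.Surjective Γ := by
      rw [← MonoidHom.range_eq_top]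
      refine Subgroup.eq_top_of_card_eq _ ?_
      rw [← Subgroup.index_ker, hker, Subgroup.index_eq_card]
    intro x hx
    obtain ⟨y, hy⟩ := hsurj (π ⟨x, hx⟩)
    have h1 : ((y : G)⁻¹ * (v * y * v⁻¹))⁻¹ * x ∈ I.Z := (hπ _ ⟨x, hx⟩).1 hy
    have h2 := hZ _ h1
    rw [map_mul, map_inv, hg y y.2, mul_right_inj] at h2
    exact h2
  -- reduction to an involution
  obtain ⟨j, hj⟩ := hα.two
  induction j generalizing α with
  | zero => intro x _; rw [pow_zero, pow_one] at hj; rw [hj]; rfl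
  | succ j ih =>
    refine key α hα fun x hx => ?_
    have hα2 : Fixes Ω a t Q (α * α) := ⟨fun y hy => hα.mem _ (hα.mem y hy),
      fun z hz => by rw [MulAut.mul_apply, hα.invol z hz, hα.invol z hz],
      fun d hd => by rw [MulAut.mul_apply, hα.stab d hd, hα.stab d hd],
      ⟨j, by rw [← pow_two, ← pow_mul, ← pow_succ']; exact hj⟩⟩
    have hj' : (α * α) ^ 2 ^ j = 1 := by rw [← pow_two, ← pow_mul, ← pow_succ']; exact hj
    exact ih hα2 hj' x hx

/-- The three cases. -/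
theorem Fixes.eq_self (hs : Simple G Ω a t Q) (hgood : Good a t Q) (hIH : IH.{u, v} (Nat.card G))
    {α : MulAut G} (hα : Fixes Ω a t Q α) : ∀ x ∈ Q, α x = x := by
  rcases hgood.dich with ⟨-, hn⟩ | ⟨-, hn, hna⟩ | ⟨hL, hn, hna, hV⟩
  · intro x hx
    have e : zGroup hs = Q := Subgroup.eq_of_le_of_card_ge (zGroup_le hs) (by rw [card_zGroup hs, hn])
    rcases (mem_zGroup hs).1 (e.ge hx) with rfl | h
    · exact map_one _
    · exact hα.invol x h
  · exact hα.suzuki hs hn hna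
  · exact hα.unitary (U3.Input.of_step hs hIH hL hn hna hV) (hgood.nondeg hn)

end Cfsg.Lib.SylowRankOne
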